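import Mathlib

/-!
# THEOREM BL* (OMEGA #18620, helper107), part 4: combinatorics of the even-subset module

`F₂ⁿ` modulo the all-one vector; subgroups `U`, `K` of `F₂ⁿ` over the all-one vector.

* `allSwap` (step 3): `U` has a nontrivial element, `U ∩ K = ⟨1⟩` and `U^(ab) ≤ K` for the transpositions outside
  `C` imply `C = Sym(n)`;
* `chain` : a subgroup of `F₂^Ω'` invariant under a `2^m`-cycle `ρ` contains or is contained in the fixed points
  of `ρ^(2^(m-1))`;
* `noCycle` (step 4);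
* `exists_pairing`, `mem_of_pairing` (step 5).
-/

set_option autoImplicit false

namespace Cfsg.Agent.Omega.NSix.NoBlk.Comb

open Equiv

/-! ### nilpotent maps with a kernel of order at most 2 -/

section Nil

variable {M : Type*} [AddCommGroup M] [Finite M] {f : M →+ M} {W : AddSubgroup M}

theorem card_map_mul (f : M →+ M) (A : AddSubgroup M) :
    Nat.card (A.map f) * Nat.card ↥(A ⊓ f.ker) = Nat.card A := by
  have h1 := (f.comp A.subtype).ker.card_mul_index
  rw [AddSubgroup.index_ker] at h1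
  have h2 : (f.comp A.subtype).range = A.map f := by
    ext x
    constructor
    · rintro ⟨a, rfl⟩
      exact ⟨a, a.2, rfl⟩
    · rintro ⟨a, ha, rfl⟩
      exact ⟨⟨a, ha⟩, rfl⟩
  have h3 : Nat.card (f.comp A.subtype).ker = Nat.card ↥(A ⊓ f.ker) := by
    refine Nat.card_congr ⟨fun x => ⟨(x : A), x.1.2, ?_⟩, fun x => ⟨⟨x, x.2.1⟩, ?_⟩, ?_, ?_⟩
    · exact x.2
    · exact x.2.2
    · intro x; rfl
    · intro x; rfl
  rw [h2, h3, mul_comm] at h1
  exact h1

theorem card_ker_le (hk : ∀ x ∈ W, ∀ y ∈ W, f x = 0 → f y = 0 → x ≠ 0 → y ≠ 0 → x = y)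
    {A : AddSubgroup M} (hA : A ≤ W) : Nat.card ↥(A ⊓ f.ker) ≤ 2 := by
  by_cases h : ∃ u ∈ A, f u = 0 ∧ u ≠ 0
  · obtain ⟨u, hu, hfu, hu0⟩ := h
    have h1 : ((A ⊓ f.ker : AddSubgroup M) : Set M) ⊆ {0, u} := by
      rintro x ⟨hx, hfx⟩
      by_cases hx0 : x = 0
      · exact Or.inl hx0
      · exact Or.inr (hk x (hA hx) u (hA hu) hfx hfu hx0 hu0)
    have h2 := Set.ncard_le_ncard h1 (Set.toFinite _)
    have h3 : ({0, u} : Set M).ncard ≤ 2 := by
      rw [Set.ncard_pair (Ne.symm hu0)]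
    rw [← Nat.card_coe_set_eq] at h2
    exact h2.trans h3
  · push Not at h
    have h1 : ((A ⊓ f.ker : AddSubgroup M) : Set M) ⊆ {0} := by
      rintro x ⟨hx, hfx⟩
      exact h x hx hfx
    have h2 := Set.ncard_le_ncard h1 (Set.toFinite _)
    rw [← Nat.card_coe_set_eq, Set.ncard_singleton] at h2
    exact h2.trans one_le_two

omit [Finite M] in
theorem iter_mem {A : AddSubgroup M} (hA : ∀ a ∈ A, f a ∈ A) {a : M} (ha : a ∈ A) (j : ℕ) :
    f^[j] a ∈ A := by
  induction j with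
  | zero => exact ha
  | succ j ih =>
    rw [Function.iterate_succ_apply']
    exact hA _ ih

omit [Finite M] in
/-- A nontrivial invariant subgroup meets the kernel nontrivially. -/
theorem exists_ker (hn : ∀ x ∈ W, ∃ j, f^[j] x = 0) {A : AddSubgroup M} (hAW : A ≤ W)
    (hA : ∀ a ∈ A, f a ∈ A) {a : M} (ha : a ∈ A) (ha0 : a ≠ 0) : ∃ u ∈ A, f u = 0 ∧ u ≠ 0 := by
  classical
  have h1 := hn a (hAW ha)
  have h2 := Nat.find_spec h1
  have h3 : Nat.find h1 ≠ 0 := by
    intro h0
    rw [h0] at h2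
    exact ha0 h2
  obtain ⟨i, hi⟩ := Nat.exists_eq_succ_of_ne_zero h3
  have h4 : f^[i] a ≠ 0 := Nat.find_min h1 (by omega)
  refine ⟨f^[i] a, iter_mem hA ha i, ?_, h4⟩
  rw [hi, Function.iterate_succ_apply'] at h2
  exact h2

theorem inv_ker (hW : ∀ x ∈ W, f x ∈ W)
    (hk : ∀ x ∈ W, ∀ y ∈ W, f x = 0 → f y = 0 → x ≠ 0 → y ≠ 0 → x = y)
    (hn : ∀ x ∈ W, ∃ j, f^[j] x = 0) :
    ∀ (j : ℕ) (A : AddSubgroup M), A ≤ W → (∀ a ∈ A, f a ∈ A) → 2 ^ j ≤ Nat.card A →
      ∀ x ∈ W, f^[j] x = 0 → x ∈ A := by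
  intro j
  induction j with
  | zero =>
    intro A _ _ _ x _ h0
    rw [Function.iterate_zero_apply] at h0
    rw [h0]
    exact A.zero_mem
  | succ j ih =>
    intro A hAW hA hc x hx hfx
    have h1 := card_map_mul f A
    have h2 := card_ker_le hk hAW
    have h3 : 2 ^ j ≤ Nat.card (A.map f) := by
      have h4 : Nat.card A ≤ Nat.card (A.map f) * 2 := by
        rw [← h1]
        exact Nat.mul_le_mul_left _ h2
      rw [pow_succ] at hc
      omega
    have h5 : A.map f ≤ W := by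
      rintro _ ⟨a, ha, rfl⟩
      exact hAW (hA a ha)
    have h6 : ∀ a ∈ A.map f, f a ∈ A.map f := by
      rintro _ ⟨a, ha, rfl⟩
      exact ⟨f a, hA a ha, rfl⟩
    have h7 := ih (A.map f) h5 h6 h3 (f x) (hW x hx) (by
      rw [← Function.iterate_succ_apply]
      exact hfx)
    obtain ⟨a, ha, hfa⟩ := h7
    have h8 : f (x - a) = 0 := by rw [map_sub, hfa, sub_self]
    by_cases h9 : x - a = 0
    · rw [sub_eq_zero.1 h9]
      exact ha
    have h10 : ∃ a0 ∈ A, a0 ≠ 0 := by
      by_contra h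
      push Not at h
      have h11 : A = ⊥ := by
        rw [eq_bot_iff]
        intro y hy
        exact h y hy
      rw [h11, AddSubgroup.card_bot] at hc
      have : 2 ≤ 2 ^ (j + 1) := by
        rw [pow_succ]
        have := Nat.one_le_two_pow (n := j)
        omega
      omega
    obtain ⟨a0, ha0, ha00⟩ := h10
    obtain ⟨u, hu, hfu, hu0⟩ := exists_ker hn hAW hA ha0 ha00
    have h12 := hk (x - a) (W.sub_mem hx (hAW ha)) u (hAW hu) h8 hfu h9 hu0
    have h13 : x = u + a := by rw [← h12]; abel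
    rw [h13]
    exact A.add_mem hu ha

theorem inv_small (hn : ∀ x ∈ W, ∃ j, f^[j] x = 0) :
    ∀ (j : ℕ) (A : AddSubgroup M), A ≤ W → (∀ a ∈ A, f a ∈ A) → Nat.card A < 2 ^ (j + 1) →
      ∀ a ∈ A, f^[j] a = 0 := by
  intro j
  induction j with
  | zero =>
    intro A hAW hA hc a ha
    rw [Function.iterate_zero_apply]
    have h1 : Nat.card A = 1 := by
      have := Nat.card_pos (α := A)
      omega
    have h2 := AddSubgroup.card_eq_one.1 h1
    rw [h2] at ha
    exact ha
  | succ j ih =>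
    intro A hAW hA hc a ha
    by_cases ha0 : a = 0
    · rw [ha0]
      exact iterate_map_zero f _
    obtain ⟨u, hu, hfu, hu0⟩ := exists_ker hn hAW hA ha ha0
    have h1 := card_map_mul f A
    have h2 : 2 ≤ Nat.card ↥(A ⊓ f.ker) := by
      have h3 : Nat.card ↥(A ⊓ f.ker) ≠ 1 := by
        intro h4
        have h5 := AddSubgroup.card_eq_one.1 h4
        have h6 : u ∈ A ⊓ f.ker := ⟨hu, hfu⟩
        rw [h5] at h6
        exact hu0 h6
      have := Nat.card_pos (α := ↥(A ⊓ f.ker))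
      omega
    have h3 : Nat.card (A.map f) < 2 ^ (j + 1) := by
      have h4 : Nat.card (A.map f) * 2 ≤ Nat.card A := by
        rw [← h1]
        exact Nat.mul_le_mul_left _ h2
      rw [pow_succ] at hc
      omega
    have h7 := ih (A.map f) (by
      rintro _ ⟨a, ha, rfl⟩
      exact hAW (hA a ha)) (by
      rintro _ ⟨a, ha, rfl⟩
      exact ⟨f a, hA a ha, rfl⟩) h3 (f a) ⟨a, ha, rfl⟩
    rw [Function.iterate_succ_apply]
    exact h7

end Nil

/-! ### the cycle -/

section Cycle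

variable {Ω : Type*} [DecidableEq Ω] [Fintype Ω]

omit [DecidableEq Ω] [Fintype Ω] in
theorem add_self (x : Ω → ZMod 2) : x + x = 0 := funext fun i => CharTwo.add_self_eq_zero (x i)

/-- The map `x ↦ x^ρ + x`. -/
def nu (ρ : Perm Ω) : (Ω → ZMod 2) →+ (Ω → ZMod 2) where
  toFun x := x ∘ ρ + x
  map_zero' := by
    funext i
    simp
  map_add' x y := by
    funext i
    simp only [Pi.add_apply, Function.comp_apply]
    ring

omit [DecidableEq Ω] [Fintype Ω] in
theorem nu_apply (ρ : Perm Ω) (x : Ω → ZMod 2) : nu ρ x = x ∘ ρ + x := rfl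

omit [DecidableEq Ω] [Fintype Ω] in
theorem nu_iter (ρ : Perm Ω) (t : ℕ) (x : Ω → ZMod 2) :
    (nu ρ)^[2 ^ t] x = x ∘ (ρ ^ (2 ^ t) : Perm Ω) + x := by
  induction t generalizing x with
  | zero => simp [nu_apply]
  | succ t ih =>
    have h1 : 2 ^ (t + 1) = 2 ^ t + 2 ^ t := by ring
    rw [h1, Function.iterate_add_apply, ih, ih]
    funext i
    have h2 : (ρ ^ (2 ^ t + 2 ^ t)) i = (ρ ^ 2 ^ t) ((ρ ^ 2 ^ t) i) := by
      rw [pow_add, Perm.mul_apply]
    simp only [Pi.add_apply, Function.comp_apply]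
    rw [h2]
    have h3 := CharTwo.add_self_eq_zero (x ((ρ ^ 2 ^ t) i))
    calc x ((ρ ^ 2 ^ t) ((ρ ^ 2 ^ t) i)) + x ((ρ ^ 2 ^ t) i) + (x ((ρ ^ 2 ^ t) i) + x i) =
        x ((ρ ^ 2 ^ t) ((ρ ^ 2 ^ t) i)) + (x ((ρ ^ 2 ^ t) i) + x ((ρ ^ 2 ^ t) i)) + x i := by ring
      _ = _ := by rw [h3, add_zero]

/-- The functions vanishing at `o`. -/
def van (o : Ω) : AddSubgroup (Ω → ZMod 2) where
  carrier := {x | x o = 0}
  zero_mem' := rfl
  add_mem' {x y} hx hy := by
    change x o + y o = 0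
    rw [show x o = 0 from hx, show y o = 0 from hy, add_zero]
  neg_mem' {x} hx := by
    change -x o = 0
    rw [show x o = 0 from hx, neg_zero]

omit [DecidableEq Ω] [Fintype Ω] in
theorem mem_van {o : Ω} {x : Ω → ZMod 2} : x ∈ van o ↔ x o = 0 := Iff.rfl

theorem zmod_two (a : ZMod 2) : a = 0 ∨ a = 1 := by
  fin_cases a
  · exact Or.inl rfl
  · exact Or.inr rfl

/-- An invariant subgroup contains or is contained in the fixed points of the involution of the cycle. -/
theorem chain {m : ℕ} {ρ : Perm Ω} {o : Ω} (hρ : ρ.IsCycle) (ho : ρ.support = {o}ᶜ)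
    (hc : ρ.support.card = 2 ^ (m + 1)) {A : AddSubgroup (Ω → ZMod 2)} (hA : A ≤ van o)
    (hi : ∀ x ∈ A, x ∘ ρ ∈ A) :
    (∀ x, x o = 0 → x ∘ (ρ ^ 2 ^ m : Perm Ω) = x → x ∈ A) ∨
      ∀ x ∈ A, x ∘ (ρ ^ 2 ^ m : Perm Ω) = x := by
  have hoo : ρ o = o := by
    by_contra h
    have h1 := Perm.mem_support.2 h
    rw [ho] at h1
    simp at h1
  have hmv : ∀ i, i ≠ o → ρ i ≠ i := by
    intro i hi
    rw [← Perm.mem_support, ho]
    simpa using hi
  have h1 : ∀ x ∈ van o, nu ρ x ∈ van o := by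
    intro x hx
    rw [mem_van] at hx ⊢
    rw [nu_apply, Pi.add_apply, Function.comp_apply, hoo, hx, add_zero]
  have hcon : ∀ x ∈ van o, nu ρ x = 0 → x ≠ 0 → ∀ i, i ≠ o → x i = 1 := by
    intro x hx h0 hx0 i hi
    have h2 : x ∘ ρ = x := by
      have h3 : x ∘ ρ + x = 0 := h0
      calc x ∘ ρ = x ∘ ρ + (x + x) := by rw [add_self, add_zero]
        _ = (x ∘ ρ + x) + x := by rw [add_assoc]
        _ = x := by rw [h3, zero_add]
    have h3 : ∀ (t : ℕ) (j : Ω), x ((ρ ^ t) j) = x j := by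
      intro t
      induction t with
      | zero => intro j; rfl
      | succ t ih =>
        intro j
        rw [pow_succ, Perm.mul_apply, ih]
        exact congrFun h2 j
    have h4 : ∃ j, x j ≠ 0 := by
      by_contra h
      push Not at h
      exact hx0 (funext h)
    obtain ⟨j, hj⟩ := h4
    have hjo : j ≠ o := by
      rintro rfl
      exact hj hx
    obtain ⟨t, ht⟩ := hρ.exists_pow_eq (hmv j hjo) (hmv i hi)
    rw [← ht, h3]
    exact (zmod_two (x j)).resolve_left hj
  have h2 : ∀ x ∈ van o, ∀ y ∈ van o, nu ρ x = 0 → nu ρ y = 0 → x ≠ 0 → y ≠ 0 → x = y := by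
    intro x hx y hy hfx hfy hx0 hy0
    funext i
    by_cases hi : i = o
    · rw [hi, mem_van.1 hx, mem_van.1 hy]
    · rw [hcon x hx hfx hx0 i hi, hcon y hy hfy hy0 i hi]
  have h3 : ∀ x ∈ van o, ∃ j, (nu ρ)^[j] x = 0 := by
    intro x _
    refine ⟨2 ^ (m + 1), ?_⟩
    rw [nu_iter]
    have h4 : ρ ^ 2 ^ (m + 1) = 1 := by
      rw [← hc, ← hρ.orderOf]
      exact pow_orderOf_eq_one _
    rw [h4]
    exact add_self x
  have h4 : ∀ a ∈ A, nu ρ a ∈ A := fun a ha => A.add_mem (hi a ha) ha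
  have h5 : ∀ x : Ω → ZMod 2, (nu ρ)^[2 ^ m] x = 0 ↔ x ∘ (ρ ^ 2 ^ m : Perm Ω) = x := by
    intro x
    rw [nu_iter]
    constructor
    · intro h6
      calc x ∘ (ρ ^ 2 ^ m : Perm Ω) = x ∘ (ρ ^ 2 ^ m : Perm Ω) + (x + x) := by
            rw [add_self, add_zero]
        _ = (x ∘ (ρ ^ 2 ^ m : Perm Ω) + x) + x := by rw [add_assoc]
        _ = x := by rw [h6, zero_add]
    · intro h6
      rw [h6, add_self]
  rcases le_or_gt (2 ^ 2 ^ m) (Nat.card A) with h6 | h6
  · exact Or.inl fun x hx hxx => inv_ker h1 h2 h3 (2 ^ m) A hA h4 h6 x hx ((h5 x).2 hxx)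
  · refine Or.inr fun x hx => (h5 x).1 (inv_small h3 (2 ^ m) A hA h4 (h6.trans ?_) x hx)
    exact Nat.pow_lt_pow_right (by norm_num) (Nat.lt_succ_self _)

/-- A `θ`-invariant set of every even size. -/
theorem exists_inv_set {θ : Perm Ω} {o : Ω} (h2 : ∀ i, θ (θ i) = i) (ho : θ o = o)
    (hf : ∀ i, i ≠ o → θ i ≠ i) :
    ∀ k, 2 * k < Fintype.card Ω → ∃ D : Finset Ω, o ∉ D ∧ D.card = 2 * k ∧ ∀ i ∈ D, θ i ∈ D := by
  intro k
  induction k with
  | zero => exact fun _ => ⟨∅, by simp, by simp, by simp⟩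
  | succ k ih =>
    intro hk
    obtain ⟨D, hoD, hD, hi⟩ := ih (by omega)
    have h3 : ∃ a, a ∉ insert o D := by
      by_contra h
      push Not at h
      have h4 : (Finset.univ : Finset Ω).card ≤ (insert o D).card :=
        Finset.card_le_card fun a _ => h a
      have h5 := Finset.card_insert_le o D
      rw [Finset.card_univ] at h4
      omega
    obtain ⟨a, ha⟩ := h3
    rw [Finset.mem_insert, not_or] at ha
    have hθa : θ a ∉ D := by
      intro h4
      have h5 := hi _ h4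
      rw [h2] at h5
      exact ha.2 h5
    have hne : θ a ≠ a := hf a ha.1
    refine ⟨insert a (insert (θ a) D), ?_, ?_, ?_⟩
    · rw [Finset.mem_insert, Finset.mem_insert, not_or, not_or]
      refine ⟨fun h => ha.1 h.symm, fun h => ha.1 ?_, hoD⟩
      have h4 : θ (θ a) = θ o := by rw [← h]
      rw [h2, ho] at h4
      exact h4
    · rw [Finset.card_insert_of_notMem, Finset.card_insert_of_notMem hθa, hD]
      · ring
      · rw [Finset.mem_insert, not_or]
        exact ⟨hne.symm, ha.2⟩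
    · intro i hiD
      rw [Finset.mem_insert, Finset.mem_insert] at hiD ⊢
      rcases hiD with rfl | rfl | hiD
      · exact Or.inr (Or.inl rfl)
      · rw [h2]
        exact Or.inl rfl
      · exact Or.inr (Or.inr (hi i hiD))

/-- The weight. -/
theorem exists_comp {x y : Ω → ZMod 2}
    (h : (Finset.univ.filter fun i => x i = 1).card = (Finset.univ.filter fun i => y i = 1).card) :
    ∃ σ : Perm Ω, y = x ∘ σ := by
  have h1 : Fintype.card {i // y i = 1} = Fintype.card {i // x i = 1} := by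
    rw [Fintype.card_subtype, Fintype.card_subtype, h]
  obtain ⟨e⟩ := Fintype.card_eq.1 h1
  refine ⟨e.extendSubtype, funext fun i => ?_⟩
  rw [Function.comp_apply]
  by_cases hi : y i = 1
  · have h2 := e.extendSubtype_mem i hi
    rw [hi]
    exact h2.symm
  · have h2 := e.extendSubtype_not_mem i hi
    rw [(zmod_two (y i)).resolve_right hi, (zmod_two (x _)).resolve_right h2]

theorem sum_eq_card (x : Ω → ZMod 2) :
    ∑ i, x i = ((Finset.univ.filter fun i => x i = 1).card : ZMod 2) := by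
  rw [Finset.card_filter, Nat.cast_sum]
  refine Finset.sum_congr rfl fun i _ => ?_
  rcases zmod_two (x i) with h | h
  · rw [h]; simp
  · rw [h]; simp

theorem even_weight {x : Ω → ZMod 2} (h : ∑ i, x i = 0) :
    ∃ k, (Finset.univ.filter fun i => x i = 1).card = 2 * k := by
  rw [sum_eq_card, ZMod.natCast_eq_zero_iff_even] at h
  obtain ⟨k, hk⟩ := h
  exact ⟨k, by rw [hk]; ring⟩

/-- `x` or `x + 1` has even weight. -/
theorem exists_even (hn : Odd (Fintype.card Ω)) {A : AddSubgroup (Ω → ZMod 2)} (h1 : 1 ∈ A)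
    {x : Ω → ZMod 2} (hx : x ∈ A) (hx0 : x ≠ 0) (hx1 : x ≠ 1) :
    ∃ y ∈ A, y ≠ 0 ∧ y ≠ 1 ∧ ∑ i, y i = 0 ∧ (y = x ∨ y = x + 1) := by
  rcases zmod_two (∑ i, x i) with h | h
  · exact ⟨x, hx, hx0, hx1, h, Or.inl rfl⟩
  · refine ⟨x + 1, A.add_mem hx h1, ?_, ?_, ?_, Or.inr rfl⟩
    · intro h2
      apply hx1
      calc x = x + (1 + 1) := by rw [add_self, add_zero]
        _ = (x + 1) + 1 := by rw [add_assoc]
        _ = 1 := by rw [h2, zero_add]
    · intro h2
      exact hx0 (by simpa using h2)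
    · have h3 : ∑ i, (x + 1) i = ∑ i, x i + (Fintype.card Ω : ZMod 2) := by
        simp [Finset.sum_add_distrib]
      rw [h3, h, ZMod.natCast_eq_one_iff_odd.2 hn]
      decide

/-- A proper subgroup is orthogonal to a nonzero vector. -/
theorem exists_orth {K : AddSubgroup (Ω → ZMod 2)} (hK : K ≠ ⊤) :
    ∃ y : Ω → ZMod 2, y ≠ 0 ∧ ∀ x ∈ K, ∑ i, x i * y i = 0 := by
  set K' : Submodule (ZMod 2) (Ω → ZMod 2) := AddSubgroup.toZModSubmodule 2 K with hK'
  have h1 : K' < ⊤ := by
    rw [lt_top_iff_ne_top]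
    intro h
    apply hK
    rw [eq_top_iff]
    intro x _
    have h2 : x ∈ K' := by rw [h]; trivial
    exact h2
  obtain ⟨f, hf, hfK⟩ := Submodule.exists_le_ker_of_lt_top K' h1
  refine ⟨fun i => f (Pi.single i 1), fun h0 => hf ?_, fun x hx => ?_⟩
  · refine LinearMap.pi_ext fun i a => ?_
    have h2 : (Pi.single i a : Ω → ZMod 2) = a • (Pi.single i 1 : Ω → ZMod 2) := by
      rw [← Pi.single_smul, smul_eq_mul, mul_one]
    rw [h2, map_smul, LinearMap.zero_apply, congrFun h0 i]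
    simp
  · have h2 : f x = ∑ i, x i * f (Pi.single i 1) := by
      conv_lhs => rw [← Finset.univ_sum_single x, map_sum]
      refine Finset.sum_congr rfl fun i _ => ?_
      have h3 : (Pi.single i (x i) : Ω → ZMod 2) = x i • (Pi.single i 1 : Ω → ZMod 2) := by
        rw [← Pi.single_smul, smul_eq_mul, mul_one]
      rw [h3, map_smul, smul_eq_mul]
    rw [← h2]
    exact hfK hx

/-- Step (4) of THEOREM BL*. -/
theorem noCycle {m : ℕ} (hcard : Fintype.card Ω = 2 ^ (m + 1) + 1) {ρ : Perm Ω}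
    (hρ : ρ.IsCycle) (hc : ρ.support.card = 2 ^ (m + 1)) {U K : AddSubgroup (Ω → ZMod 2)}
    (hU1 : 1 ∈ U) (hK1 : 1 ∈ K) (hK : K ≠ ⊤) {d : Ω → ZMod 2} (hd : d ∈ K) (hd0 : d ≠ 0)
    (hd1 : d ≠ 1) (hi : ∀ x ∈ U, x ∘ ρ ∈ U)
    (hdis : ∀ (σ : Perm Ω), ∀ x ∈ U, x ∘ σ ∈ K → x = 0 ∨ x = 1)
    (hsp : ∀ (σ : Perm Ω) (x : Ω → ZMod 2), ∃ u ∈ U, ∃ c ∈ K, x = u + c ∘ σ) : False := by
  have hodd : Odd (Fintype.card Ω) := by
    rw [hcard]
    exact Even.add_one (Nat.even_pow.2 ⟨even_two, by omega⟩)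
  -- the fixed point
  have h1 : (ρ.supportᶜ).card = 1 := by
    rw [Finset.card_compl, hc, hcard]
    omega
  obtain ⟨o, ho⟩ := Finset.card_eq_one.1 h1
  have ho' : ρ.support = {o}ᶜ := by rw [← ho, compl_compl]
  set θ : Perm Ω := ρ ^ 2 ^ m with hθ
  have h2 : ∀ i, θ (θ i) = i := by
    intro i
    rw [hθ, ← Perm.mul_apply, ← pow_add]
    have h3 : 2 ^ m + 2 ^ m = 2 ^ (m + 1) := by ring
    rw [h3, ← hc, ← hρ.orderOf, pow_orderOf_eq_one]
    rfl
  have hρo : ρ o = o := by
    by_contra h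
    have h1 := Perm.mem_support.2 h
    rw [ho'] at h1
    simp at h1
  have hθo : θ o = o := by
    rw [hθ]
    exact Perm.pow_apply_eq_self_of_apply_eq_self hρo _
  have hf : ∀ i, i ≠ o → θ i ≠ i := by
    intro i hio h3
    have h4 : ρ i ≠ i := by
      rw [← Perm.mem_support, ho']
      simpa using hio
    have h5 : ρ ^ 2 ^ m = 1 := hρ.pow_eq_one_iff.2 ⟨i, h4, h3⟩
    have h6 := orderOf_dvd_of_pow_eq_one h5
    rw [hρ.orderOf, hc] at h6
    have h7 := Nat.le_of_dvd (by positivity) h6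
    rw [pow_succ] at h7
    have := Nat.one_le_two_pow (n := m)
    omega
  -- a `θ`-invariant function of a given even weight
  have h3 : ∀ y : Ω → ZMod 2, ∑ i, y i = 0 →
      ∃ σ : Perm Ω, (y ∘ σ) o = 0 ∧ (y ∘ σ) ∘ θ = y ∘ σ := by
    intro y hy
    obtain ⟨k, hk⟩ := even_weight hy
    have h4 : 2 * k < Fintype.card Ω := by
      have h5 : 2 * k ≤ Fintype.card Ω := by
        rw [← hk]
        exact Finset.card_le_univ _
      rcases h5.lt_or_eq with h6 | h6
      · exact h6
      · exfalso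
        rw [← h6] at hodd
        exact (Nat.not_odd_iff_even.2 ⟨k, by ring⟩) hodd
    obtain ⟨D, hoD, hD, hDi⟩ := exists_inv_set h2 hθo hf k h4
    obtain ⟨σ, hσ⟩ := exists_comp (x := y) (y := fun i => if i ∈ D then 1 else 0) (by
      rw [hk, ← hD]
      congr 1
      ext i
      simp)
    refine ⟨σ, ?_, ?_⟩
    · rw [← hσ]
      simp [hoD]
    · rw [← hσ]
      funext i
      have h5 : θ i ∈ D ↔ i ∈ D := ⟨fun h6 => by
        have h7 := hDi _ h6
        rwa [h2] at h7, hDi i⟩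
      simp only [Function.comp_apply, h5]
  -- the subgroup of the functions of `U` vanishing at `o`
  rcases chain hρ ho' hc (A := U ⊓ van o) inf_le_right (fun x hx => ⟨hi x hx.1, by
    change (x ∘ ρ) o = 0
    rw [Function.comp_apply, hρo]
    exact hx.2⟩) with h4 | h4
  · obtain ⟨y, hy, hy0, hy1, hys, -⟩ := exists_even hodd hK1 hd hd0 hd1
    obtain ⟨σ, hσ1, hσ2⟩ := h3 y hys
    have h5 := (h4 (y ∘ σ) hσ1 hσ2).1
    have h6 : (y ∘ σ) ∘ (σ⁻¹ : Perm Ω) = y := by
      funext i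
      simp
    rcases hdis σ⁻¹ (y ∘ σ) h5 (by rw [h6]; exact hy) with h7 | h7
    · apply hy0
      rw [← h6, h7]
      rfl
    · apply hy1
      rw [← h6, h7]
      rfl
  · obtain ⟨y, hy0, hy⟩ := exists_orth hK
    have hys : ∑ i, y i = 0 := by
      have h5 := hy 1 hK1
      simpa using h5
    obtain ⟨σ, hσ1, hσ2⟩ := h3 y hys
    have hUθ : ∀ x ∈ U, x ∘ θ = x := by
      intro x hx
      rcases zmod_two (x o) with h5 | h5
      · exact h4 x ⟨hx, h5⟩
      · have h6 := h4 (x + 1) ⟨U.add_mem hx hU1, by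
          change x o + 1 = 0
          rw [h5]
          decide⟩
        funext i
        have h7 := congrFun h6 i
        simpa using h7
    have hUy : ∀ x ∈ U, ∑ i, x i * (y ∘ σ) i = 0 := by
      intro x hx
      refine Finset.sum_involution (fun i _ => θ i) ?_ ?_ (fun _ _ => Finset.mem_univ _) ?_
      · intro i _
        have h5 : x (θ i) = x i := congrFun (hUθ x hx) i
        have h6 : (y ∘ σ) (θ i) = (y ∘ σ) i := congrFun hσ2 i
        rw [h5, h6]
        exact CharTwo.add_self_eq_zero _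
      · intro i _ h5
        apply hf
        rintro rfl
        apply h5
        rw [hσ1, mul_zero]
      · intro i _
        exact h2 i
    have hKy : ∀ c ∈ K, ∑ i, (c ∘ σ) i * (y ∘ σ) i = 0 := by
      intro c hc
      rw [← hy c hc]
      exact Equiv.sum_comp σ (fun i => c i * y i)
    have h5 : y ∘ σ = 0 := by
      funext j
      obtain ⟨u, hu, c, hc, h6⟩ := hsp σ (Pi.single j 1)
      have h7 : ∑ i, (Pi.single j 1 : Ω → ZMod 2) i * (y ∘ σ) i = 0 := by
        rw [h6]
        simp only [Pi.add_apply, add_mul, Finset.sum_add_distrib]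
        rw [hUy u hu, hKy c hc, add_zero]
      rw [Finset.sum_eq_single j] at h7
      · simpa using h7
      · intro i _ hij
        rw [Pi.single_eq_of_ne hij, zero_mul]
      · intro h8
        exact absurd (Finset.mem_univ j) h8
    apply hy0
    have h6 : (y ∘ σ) ∘ (σ⁻¹ : Perm Ω) = y := by
      funext i
      simp
    rw [← h6, h5]
    rfl

/-- A full cycle on `Ω - o`. -/
theorem exists_cycle {m : ℕ} (hcard : Fintype.card Ω = 2 ^ (m + 1) + 1) :
    ∃ ρ : Perm Ω, ρ.IsCycle ∧ ρ.support.card = 2 ^ (m + 1) := by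
  have h1 : (2 : ℕ) ≤ 2 ^ (m + 1) := by
    rw [pow_succ]
    have := Nat.one_le_two_pow (n := m)
    omega
  obtain ⟨g, hg⟩ := (Perm.exists_with_cycleType_iff (α := Ω) (m := {2 ^ (m + 1)})).2
    ⟨by rw [Multiset.sum_singleton, hcard]; omega, by simpa using h1⟩
  refine ⟨g, ?_, ?_⟩
  · rw [← Perm.card_cycleType_eq_one, hg, Multiset.card_singleton]
  · rw [← Perm.sum_cycleType, hg, Multiset.sum_singleton]

/-! ### steps (3) and (5) -/

theorem single_swap {a b : Ω} (x : Ω → ZMod 2) (h : x a ≠ x b) :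
    x ∘ Equiv.swap a b = x + (Pi.single a 1 + Pi.single b 1) := by
  have hab : a ≠ b := fun h1 => h (by rw [h1])
  have h1 : x b = x a + 1 := by
    rcases zmod_two (x a) with h2 | h2 <;> rcases zmod_two (x b) with h3 | h3
    · exact absurd (h2.trans h3.symm) h
    · rw [h2, h3]; decide
    · rw [h2, h3]; decide
    · exact absurd (h2.trans h3.symm) h
  have h2 : x a = x b + 1 := by
    rw [h1, add_assoc]
    have : (1 : ZMod 2) + 1 = 0 := by decide
    rw [this, add_zero]
  funext i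
  simp only [Function.comp_apply, Pi.add_apply]
  by_cases hia : i = a
  · subst hia
    rw [Equiv.swap_apply_left, Pi.single_eq_same, Pi.single_eq_of_ne hab, h1, add_zero]
  · by_cases hib : i = b
    · subst hib
      rw [Equiv.swap_apply_right, Pi.single_eq_same, Pi.single_eq_of_ne hia, h2, zero_add]
    · rw [Equiv.swap_apply_of_ne_of_ne hia hib, Pi.single_eq_of_ne hia, Pi.single_eq_of_ne hib,
        add_zero, add_zero]

omit [Fintype Ω] in
theorem comp_swap_eq {a b : Ω} (x : Ω → ZMod 2) (h : x a = x b) : x ∘ Equiv.swap a b = x := by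
  funext i
  simp only [Function.comp_apply]
  by_cases hia : i = a
  · rw [hia, Equiv.swap_apply_left, h]
  · by_cases hib : i = b
    · rw [hib, Equiv.swap_apply_right, h]
    · rw [Equiv.swap_apply_of_ne_of_ne hia hib]

/-- Step (3) of THEOREM BL*. -/
theorem allSwap (hodd : Odd (Fintype.card Ω)) {C : Subgroup (Perm Ω)}
    {U K : AddSubgroup (Ω → ZMod 2)} (hU1 : 1 ∈ U) {u : Ω → ZMod 2} (hu : u ∈ U) (hu0 : u ≠ 0)
    (hu1 : u ≠ 1) (hdis : ∀ x ∈ U, x ∈ K → x = 0 ∨ x = 1)
    (hh : ∀ a b, Equiv.swap a b ∉ C → ∀ x ∈ U, x ∘ Equiv.swap a b ∈ K) : C = ⊤ := by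
  obtain ⟨x, hx, hx0, hx1, hs, -⟩ := exists_even hodd hU1 hu hu0 hu1
  have hxK : x ∉ K := fun h => (hdis x hx h).elim hx0 hx1
  have key : ∀ a b, Equiv.swap a b ∉ C →
      x a ≠ x b ∧ x + (Pi.single a 1 + Pi.single b 1) ∈ K := by
    intro a b h
    have h1 := hh a b h x hx
    have h2 : x a ≠ x b := by
      intro h3
      rw [comp_swap_eq x h3] at h1
      exact hxK h1
    rw [single_swap x h2] at h1
    exact ⟨h2, h1⟩
  by_contra hC
  -- a transposition outside `C`
  have h3 : ∃ a b, Equiv.swap a b ∉ C := by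
    by_contra h
    push Not at h
    apply hC
    rw [eq_top_iff, ← Perm.closure_isSwap, Subgroup.closure_le]
    rintro σ ⟨a, b, -, rfl⟩
    exact h a b
  have h4 : ∃ a b, Equiv.swap a b ∉ C ∧ x a = 1 ∧ x b = 0 := by
    obtain ⟨a, b, h⟩ := h3
    have h5 := (key a b h).1
    rcases zmod_two (x a) with h6 | h6 <;> rcases zmod_two (x b) with h7 | h7
    · exact absurd (h6.trans h7.symm) h5
    · exact ⟨b, a, by rwa [Equiv.swap_comm], h7, h6⟩
    · exact ⟨a, b, h, h6, h7⟩
    · exact absurd (h6.trans h7.symm) h5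
  obtain ⟨a, b, hab, ha, hb⟩ := h4
  have hne : a ≠ b := by
    rintro rfl
    rw [ha] at hb
    exact absurd hb (by decide)
  have h5 : ∀ c, x c = 1 → x + (Pi.single c 1 + Pi.single b 1) ∈ K := by
    intro c hc
    refine (key c b fun h6 => ?_).2
    by_cases hca : c = a
    · rw [hca] at h6
      exact hab h6
    have hcb : c ≠ b := by
      rintro rfl
      rw [hb] at hc
      exact absurd hc (by decide)
    have h7 : Equiv.swap c a ∈ C := by
      by_contra h8
      exact (key c a h8).1 (hc.trans ha.symm)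
    apply hab
    have h8 : Equiv.swap c a * Equiv.swap c b * (Equiv.swap c a)⁻¹ = Equiv.swap a b := by
      rw [← Equiv.swap_apply_apply, Equiv.swap_apply_left,
        Equiv.swap_apply_of_ne_of_ne hcb.symm hne.symm]
    rw [← h8]
    exact C.mul_mem (C.mul_mem h7 h6) (C.inv_mem h7)
  have h6 : ∀ c, x c = 1 → (Pi.single c 1 + Pi.single a 1 : Ω → ZMod 2) ∈ K := by
    intro c hc
    have h7 := K.add_mem (h5 c hc) (h5 a ha)
    have h8 : x + (Pi.single c 1 + Pi.single b 1) + (x + (Pi.single a 1 + Pi.single b 1)) =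
        (Pi.single c 1 + Pi.single a 1) + ((x + x) + ((Pi.single b 1 + Pi.single b 1))) := by
      abel
    rw [h8, add_self, add_self, add_zero, add_zero] at h7
    exact h7
  apply hxK
  have h7 : x = ∑ c, x c • (Pi.single c 1 + Pi.single a 1 : Ω → ZMod 2) := by
    simp only [smul_add, Finset.sum_add_distrib, ← Finset.sum_smul, hs, zero_smul, add_zero]
    conv_lhs => rw [← Finset.univ_sum_single x]
    refine Finset.sum_congr rfl fun i _ => ?_
    rw [← Pi.single_smul, smul_eq_mul, mul_one]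
  rw [h7]
  refine K.sum_mem fun c _ => ?_
  rcases zmod_two (x c) with h8 | h8
  · rw [h8, zero_smul]
    exact K.zero_mem
  · rw [h8, one_smul]
    exact h6 c h8

/-- The pairing of an even set. -/
theorem exists_pairing : ∀ (k : ℕ) (D : Finset Ω), D.card = 2 * k →
    ∃ (θ : Perm Ω) (e : Ω → ZMod 2),
      θ ∈ Subgroup.closure {σ : Perm Ω | ∃ a ∈ D, ∃ b ∈ D, σ = Equiv.swap a b} ∧
      θ * θ = 1 ∧ (∀ i, i ∉ D → θ i = i) ∧ (∀ i, i ∉ D → e i = 0) ∧
      e + e ∘ θ = fun i => if i ∈ D then 1 else 0 := by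
  intro k
  induction k with
  | zero =>
    intro D hD
    have h1 : D = ∅ := Finset.card_eq_zero.1 (by omega)
    subst h1
    refine ⟨1, 0, Subgroup.one_mem _, one_mul _, fun _ _ => rfl, fun _ _ => rfl, ?_⟩
    funext i
    simp
  | succ k ih =>
    intro D hD
    obtain ⟨a, ha, b, hb, hab⟩ := Finset.one_lt_card.1 (show 1 < D.card by omega)
    set D' := (D.erase a).erase b with hD'
    have hb' : b ∈ D.erase a := Finset.mem_erase.2 ⟨hab.symm, hb⟩
    have hc : D'.card = 2 * k := by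
      rw [hD', Finset.card_erase_of_mem hb', Finset.card_erase_of_mem ha]
      omega
    obtain ⟨θ, e, hθ, hθ2, hf, he, hs⟩ := ih D' hc
    have haD' : a ∉ D' := by simp [hD']
    have hbD' : b ∉ D' := by simp [hD']
    have hD'D : D' ⊆ D := (Finset.erase_subset _ _).trans (Finset.erase_subset _ _)
    have hθa := hf a haD'
    have hθb := hf b hbD'
    have hconj : θ * Equiv.swap a b = Equiv.swap a b * θ := by
      have h1 : θ * Equiv.swap a b * θ⁻¹ = Equiv.swap a b := by
        rw [← Equiv.swap_apply_apply, hθa, hθb]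
      calc θ * Equiv.swap a b = θ * Equiv.swap a b * θ⁻¹ * θ := by group
        _ = _ := by rw [h1]
    refine ⟨θ * Equiv.swap a b, e + Pi.single a 1, ?_, ?_, ?_, ?_, ?_⟩
    · refine Subgroup.mul_mem _ (Subgroup.closure_mono ?_ hθ)
        (Subgroup.subset_closure ⟨a, ha, b, hb, rfl⟩)
      rintro σ ⟨c, hc, d, hd, rfl⟩
      exact ⟨c, hD'D hc, d, hD'D hd, rfl⟩
    · calc θ * Equiv.swap a b * (θ * Equiv.swap a b)
          = θ * (Equiv.swap a b * θ) * Equiv.swap a b := by group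
        _ = (θ * θ) * (Equiv.swap a b * Equiv.swap a b) := by rw [← hconj]; group
        _ = 1 := by rw [hθ2, Equiv.swap_mul_self, one_mul]
    · intro i hi
      have h1 : i ≠ a := by rintro rfl; exact hi ha
      have h2 : i ≠ b := by rintro rfl; exact hi hb
      rw [Perm.mul_apply, Equiv.swap_apply_of_ne_of_ne h1 h2]
      exact hf i fun h => hi (hD'D h)
    · intro i hi
      have h1 : i ≠ a := by rintro rfl; exact hi ha
      rw [Pi.add_apply, he i fun h => hi (hD'D h), Pi.single_eq_of_ne h1, add_zero]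
    · funext i
      have hi' := congrFun hs i
      simp only [Pi.add_apply, Function.comp_apply, Perm.mul_apply] at hi' ⊢
      by_cases h1 : i = a
      · subst h1
        rw [Equiv.swap_apply_left, hθb, he i haD', he b hbD', Pi.single_eq_same,
          Pi.single_eq_of_ne hab.symm, if_pos ha]
        decide
      · by_cases h2 : i = b
        · subst h2
          rw [Equiv.swap_apply_right, hθa, he i hbD', he a haD', Pi.single_eq_same,
            Pi.single_eq_of_ne h1, if_pos hb]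
          decide
        · rw [Equiv.swap_apply_of_ne_of_ne h1 h2, Pi.single_eq_of_ne h1]
          have h3 : θ i ≠ a := by
            intro h4
            apply h1
            exact θ.injective (h4.trans hθa.symm)
          rw [Pi.single_eq_of_ne h3, add_zero, add_zero, hi']
          have h4 : i ∈ D' ↔ i ∈ D := by simp [hD', h1, h2]
          simp only [h4]

/-- Step (5) of THEOREM BL*. -/
theorem mem_of_pairing {U : AddSubgroup (Ω → ZMod 2)} {θ : Perm Ω} {e d : Ω → ZMod 2}
    (hd : d ∘ θ = d) (he : e + e ∘ θ = d) (hs : ∀ x, x ∈ U ∨ x + d ∈ U)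
    (hi : ∀ x ∈ U, x ∘ θ ∈ U) : d ∈ U := by
  rw [← he]
  rcases hs e with h | h
  · exact U.add_mem h (hi e h)
  · have h1 := U.add_mem h (hi _ h)
    have h2 : e + d + (e + d) ∘ θ = e + e ∘ θ + (d + d) := by
      have h3 : (e + d) ∘ θ = e ∘ θ + d := by
        conv_rhs => rw [← hd]
        rfl
      rw [h3]
      abel
    rw [h2, add_self, add_zero] at h1
    exact h1

end Cycle

end Cfsg.Agent.Omega.NSix.NoBlk.Comb
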