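import Cfsg.Agent.Omega.NSix.NoBlk.Nrm
import Cfsg.Agent.Omega.NSix.NoBlk.Sym
import Cfsg.Agent.Omega.MinPar

/-!
# THEOREM BL* (OMEGA #18620, helper107)

`G` of characteristic 2 type, `S ∈ Syl₂(P)`, `Q = O₂(P)`, `E = Ω₁(Z(Q))` the even-subset module of degree
`n = 2^m + 1` (`P` induces `Sym(n)`, `C_S(E) ≤ Q`), `J(S) ≤ Q`.

* `no_blk`: no Baumann block `(L, V)` over `bau S` satisfying (N) (for `T ≥ Q`) centralises `1 ≠ d ∈ E`;
* `hasBlk_of`: the FF theorem gives a block satisfying (N);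
* `cen`: `Q ≤ T`, `X ≤ C_G(d)` a minimal parabolic over `T ∈ Syl₂(X)` of characteristic 2 with `J(S) ≰ O₂(X)`:
  then `O²(X)` centralises `⟨Ω₁(Z(T))^X⟩`.
-/

set_option autoImplicit false

namespace Cfsg.Agent.Omega.NSix.NoBlk.Main

open Subgroup Cfsg Cfsg.Agent.PLocal.ThompsonJ Cfsg.Agent.ZN Cfsg.Agent.ZN.ChoiceBase
open Cfsg.Agent.ZN.ChoiceSit
open Cfsg.Agent.Omega.SQ1.BauK.InK (QL mem_QL not_QL)
open Cfsg.Agent.Omega.NO3b.FPB.Base Cfsg.Agent.Omega.NO3b.FPB.Claim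
open Cfsg.Agent.Omega.NSix.NoBlk.Pair Cfsg.Agent.Omega.NSix.NoBlk.Core
open Cfsg.Agent.Omega.S5.Def
open Cfsg.Agent.MinSimple.MinParabolic (IsMinPar)
open Cfsg.Agent.MinSimple.VModule (oddGen)

universe u

variable {G : Type u} [Group G] {T X L V : Subgroup G}

/-- (N) : `N_T(C_B(V))` normalises `C_{Z_J}(L)`. -/
def NN (T L V : Subgroup G) : Prop :=
  ∀ s ∈ T, s ∈ normalizer (QL T V : Set G) → ∀ z ∈ zj T, (∀ l ∈ L, l * z = z * l) →
    ∀ l ∈ L, l * (s * z * s⁻¹) = (s * z * s⁻¹) * l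

/-- A Baumann block over `bau T` in `X` satisfying (N). -/
def HasBlk (T X : Subgroup G) : Prop := ∃ L V : Subgroup G, L ≤ X ∧ PB T L V ∧ NN T L V

theorem hasBlk_nat [Finite G] {H T Q V V0 : Subgroup G} {ι : Type} {N A : ι → Subgroup G} {q : ℕ}
    (h : SQ1.BauK.InK H T Q V V0 N A q) (i : ι) : HasBlk T H := by
  obtain ⟨L, k⟩ := h.exists_blk i
  refine ⟨L, NO3b.FPB.OfInK.N0 N i L, k.LH h, ⟨NO3b.FPB.OfInK.blk k h, ?_,
    NO3b.FPB.OfInK.bk k h le_top (PB.le_norm_top L)⟩, fun s hs hn z hz hc =>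
    Nrm.nrmK k h hs hn hz hc⟩
  exact isElementaryAbelian_mono
    (isElementaryAbelian_iff.2 ⟨fun v hv w hw => h.VcQ v (h.VQ hv) w hw, h.Vsq⟩)
    ((NO3b.FPB.OfInK.N0_le k h).trans (h.NV i))

theorem hasBlk_sym [Finite G] {H T Q V : Subgroup G} {ι : Type} {N : ι → Subgroup G} {d t r : ι → G}
    (hT : Syl T H) (h : SQ1.BauS.In H T Q V N d t r) (i : ι) : HasBlk T H := by
  obtain ⟨L, k⟩ := h.exists_blk i
  exact ⟨L, N i, k.LP.trans (h.PP_le i), ⟨NO3b.FPB.OfS.blk k h,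
    isElementaryAbelian_mono h.Velem (h.NV i),
    NO3b.FPB.OfS.bk k h le_top (PB.le_norm_top L)⟩, fun s hs hn z hz hc =>
    Nrm.nrmS hT k h hs hn hz hc⟩

/-- The FF theorem gives a block satisfying (N). -/
theorem hasBlk_of [Finite G] (hFF : FFThm.Stmt.{u}) (hT : Syl T X)
    (hP : IsMinPar T X) (hc : X ⊓ centralizer (o2 X : Set G) ≤ o2 X) (hJ : ¬ jj T ≤ o2 X)
    (hne : (X ⊓ centralizer (zl T X : Set G)) ⊔ T ≠ X) : HasBlk T X := by
  rcases NO3b.FPB.OfStmt.of_stmt hFF hT hP hc hJ hne with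
    ⟨ι, N, A, q, ⟨i⟩, h⟩ | ⟨ι, N, d, t, r, ⟨i⟩, h, -⟩
  · exact hasBlk_nat h i
  · exact hasBlk_sym hT h i

/-- The data of `P`: `E = Ω₁(Z(O₂(P)))` is the even-subset module of degree `2^m + 1`, `J(S) ≤ O₂(P)`. -/
structure Dat (S : Sylow 2 G) (P E : Subgroup G) {n : ℕ} (ε : (Fin n → ZMod 2) → G) : Prop where
  hG : IsCharacteristicTwoType G
  SP : (S : Subgroup G) ≤ P
  ev : EvenSet n E P ε
  zE : zc (o2 P) = E
  cE : (S : Subgroup G) ⊓ centralizer (E : Set G) ≤ o2 P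
  J : jj (S : Subgroup G) ≤ o2 P

namespace Dat

variable {S : Sylow 2 G} {P E : Subgroup G} {n : ℕ} {ε : (Fin n → ZMod 2) → G}

theorem QS [Finite G] (D : Dat S P E ε) : o2 P ≤ (S : Subgroup G) :=
  o2_le_syl (MinSimple.EmptyTI.syl_of_le D.SP)

theorem EZ [Finite G] (D : Dat S P E ε) : E ≤ zj (S : Subgroup G) := by
  intro e he
  rw [← D.zE, ChoiceBase.mem_zc] at he
  have hc : ∀ j ∈ jj (S : Subgroup G), j * e = e * j := fun j hj => he.2.2 j (D.J hj)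
  exact ChoiceBase.mem_zj.2 ⟨mem_jj_of_comm (D.QS he.1) he.2.1 hc, he.2.1, hc⟩

theorem BQ [Finite G] (D : Dat S P E ε) : bau (S : Subgroup G) ≤ o2 P := fun b hb =>
  D.cE ⟨ChoiceBase.bau_le _ hb, mem_centralizer_iff.2 fun e he => (mem_bau.1 hb).2 e (D.EZ he)⟩

theorem bauQ [Finite G] (D : Dat S P E ε) : bau (o2 P) = bau (S : Subgroup G) :=
  LemmaK.Main.bau_eq S (ZN.isPGroup_o2 P) D.BQ

theorem nB [Finite G] (D : Dat S P E ε) : P ≤ normalizer (bau (S : Subgroup G) : Set G) := by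
  rw [← D.bauQ]
  exact (ZN.le_normalizer_o2 P).trans (normalizer_le_bau _)

theorem ctx [Finite G] (D : Dat S P E ε) (hQT : o2 P ≤ T) (hT2 : IsPGroup 2 T) (k : PB T L V)
    (hN : NN T L V) {d : G} (hd : d ∈ E) (hd1 : d ≠ 1) (hL : ∀ l ∈ L, l * d = d * l) :
    Ctx S P (o2 P) E L V := by
  have hb : bau T = bau (S : Subgroup G) := LemmaK.Main.bau_eq S hT2 (D.BQ.trans hQT)
  have hz : zj T = zj (S : Subgroup G) := NO3b.FPB.Move.zj_eq hb
  have hq : QL T V = QL (S : Subgroup G) V := by unfold QL; rw [hb]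
  exact
    { hG := D.hG
      k := k.of_bau hb
      nB := D.nB
      Q2 := ZN.isPGroup_o2 P
      QP := ZN.o2_le P
      PQ := ZN.le_normalizer_o2 P
      EZ := D.EZ
      PE := D.ev.le_normalizer
      QE := fun s hs e he => by
        rw [← D.zE, ChoiceBase.mem_zc] at he
        exact he.2.2 s hs
      CE := fun z hz hc => by
        rw [← D.zE, ChoiceBase.mem_zc]
        have hz' := ChoiceBase.mem_zj.1 hz
        exact ⟨D.J hz'.1, hz'.2.1, hc⟩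
      nK := ⟨d, hd, hd1, hL⟩
      nrm := fun t ht htn z hz' hc => hN t (hQT ht) (by rw [hq]; exact htn) z (by rw [hz]; exact hz')
        hc }

end Dat

variable {S : Sylow 2 G} {P E : Subgroup G} {m : ℕ} {ε : (Fin (2 ^ m + 1) → ZMod 2) → G}

/-- **THEOREM BL\*** -/
theorem no_blk [Finite G] (D : Dat S P E ε) (hm : 1 ≤ m) (hQT : o2 P ≤ T) (hT2 : IsPGroup 2 T)
    (k : PB T L V) (hN : NN T L V) {d : G} (hd : d ∈ E) (hd1 : d ≠ 1)
    (hL : ∀ l ∈ L, l * d = d * l) : False := by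
  obtain ⟨m, rfl⟩ : ∃ k, m = k + 1 := ⟨m - 1, by omega⟩
  exact Sym.noBlock (D.ctx hQT hT2 k hN hd hd1 hL) D.ev rfl

/-- **COR.** of THEOREM BL*. -/
theorem cen [Finite G] (hFF : FFThm.Stmt.{u}) (D : Dat S P E ε) (hm : 1 ≤ m) (hQT : o2 P ≤ T)
    (hT : Syl T X) (hP : IsMinPar T X) (hc : X ⊓ centralizer (o2 X : Set G) ≤ o2 X) {d : G}
    (hd : d ∈ E) (hd1 : d ≠ 1) (hX : X ≤ centralizer {d}) (hJ : ¬ jj (S : Subgroup G) ≤ o2 X) :
    oddGen X ≤ centralizer (zl T X : Set G) := by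
  by_contra hne
  have hBT : bau (S : Subgroup G) ≤ T := D.BQ.trans hQT
  have hJT : ¬ jj T ≤ o2 X := by rwa [LemmaK.Main.jj_eq S hT.2.1 hBT]
  obtain ⟨L, V, hLX, k, hN⟩ := hasBlk_of hFF hT hP hc hJT (NO3b.FPB.Cen.cent_sup_ne hT hne)
  refine no_blk D hm hQT hT.2.1 k hN hd hd1 fun l hl => ?_
  exact (mem_centralizer_iff.1 (hX (hLX hl)) d (Set.mem_singleton d)).symm

/-- `Ω₁(Z(T)) ≤ C(O²(X))`. -/
theorem cen_zc [Finite G] (hFF : FFThm.Stmt.{u}) (D : Dat S P E ε) (hm : 1 ≤ m) (hQT : o2 P ≤ T)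
    (hT : Syl T X) (hP : IsMinPar T X) (hc : X ⊓ centralizer (o2 X : Set G) ≤ o2 X) {d : G}
    (hd : d ∈ E) (hd1 : d ≠ 1) (hX : X ≤ centralizer {d}) (hJ : ¬ jj (S : Subgroup G) ≤ o2 X) :
    zc T ≤ centralizer (oddGen X : Set G) :=
  SQ1.VOf.zc_le_zl.trans (le_centralizer_iff.1 (cen hFF D hm hQT hT hP hc hd hd1 hX hJ))

/-- The data for a minimal parabolic `P ∈ P*(S)` with `V_P` the even-subset module. -/
theorem dat_par [Finite G] (hG : IsCharacteristicTwoType G) (hP : MinPar.IsParS (S : Subgroup G) P)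
    {n : ℕ} {ε : (Fin n → ZMod 2) → G} (ev : EvenSet n (zl (S : Subgroup G) P) P ε)
    (hZ : zc (o2 P) = zl (S : Subgroup G) P) (hJ : jj (S : Subgroup G) ≤ o2 P) :
    Dat S P (zl (S : Subgroup G) P) ε where
  hG := hG
  SP := hP.isLoc.le
  ev := ev
  zE := hZ
  cE := (hP.inf_centralizer S hG).le
  J := hJ

end Cfsg.Agent.Omega.NSix.NoBlk.Main
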