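import Cfsg.Agent.Omega.NSix.NoBlk.XB

/-!
# THEOREM BL* (OMEGA #18620, helper107), part 3: the complements `E_b`

`Ctx S P Q E L V` : `P` normalises `B = bau S`, `Q`, `E`; `E = C_{Z_J}(Q)`; `(L, V)` is a Baumann block over `B`,
`C_E(L) ≠ 1`, and `N_Q(C_B(V))` normalises `C_{Z_J}(L)`.

* `Good` : `b ∈ B - C_B(V)` whose coset is fixed by `N_Q(C_B(V))`;
* `EB` : `E_b = E ∩ ⟨X_b^s | s ∈ Q⟩`;
* `EB_disj`, `EB_split` : `E = E_b × C_E(L)`;
* `apartQ` : `P_L^y ≠ P_L^s` for all `s ∈ Q` implies `E_b ≤ C(L^y)`;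
* `same` : otherwise `V Z_J` is normalised.
-/

set_option autoImplicit false

namespace Cfsg.Agent.Omega.NSix.NoBlk.Core

open Subgroup Cfsg Cfsg.Agent.PLocal.ThompsonJ Cfsg.Agent.ZN Cfsg.Agent.ZN.ChoiceBase
open Cfsg.Agent.ZN.ChoiceSit
open Cfsg.Agent.Omega.SQ1.Bau (elem_comm elem_sq mem_sup_comm card_sup_comm Mv mv_inv)
open Cfsg.Agent.Omega.SQ1.BauK.InK (QL mem_QL not_QL)
open Cfsg.Agent.Omega.NO3b.FPB.Base Cfsg.Agent.Omega.NO3b.FPB.Claim
open Cfsg.Agent.Omega.NSix.NoBlk.Pair Cfsg.Agent.Omega.NSix.NoBlk.XB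

universe u

variable {G : Type u} [Group G] {S : Sylow 2 G} {P Q E L V W : Subgroup G}

/-- see the head of the file -/
structure Ctx (S : Sylow 2 G) (P Q E L V : Subgroup G) : Prop where
  hG : IsCharacteristicTwoType G
  k : PB (S : Subgroup G) L V
  nB : P ≤ normalizer (bau (S : Subgroup G) : Set G)
  Q2 : IsPGroup 2 Q
  QP : Q ≤ P
  PQ : P ≤ normalizer (Q : Set G)
  EZ : E ≤ zj (S : Subgroup G)
  PE : P ≤ normalizer (E : Set G)
  QE : ∀ s ∈ Q, ∀ e ∈ E, s * e = e * s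
  CE : ∀ z ∈ zj (S : Subgroup G), (∀ s ∈ Q, s * z = z * s) → z ∈ E
  nK : ∃ d ∈ E, d ≠ 1 ∧ ∀ l ∈ L, l * d = d * l
  nrm : ∀ t ∈ Q, t ∈ normalizer (QL (S : Subgroup G) V : Set G) → ∀ z ∈ zj (S : Subgroup G),
    (∀ l ∈ L, l * z = z * l) → ∀ l ∈ L, l * (t * z * t⁻¹) = (t * z * t⁻¹) * l

/-- `b ∈ B - C_B(V)`, the coset `b C_B(V)` is fixed by `N_Q(C_B(V))`. -/
structure Good (S Q V : Subgroup G) (b : G) : Prop where
  mem : b ∈ bau S
  not : b ∉ QL S V
  fix : ∀ s ∈ Q, s ∈ normalizer (QL S V : Set G) → b⁻¹ * (s * b * s⁻¹) ∈ QL S V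

/-- `⟨X_b^s | s ∈ Q⟩` -/
def XQ (Q W : Subgroup G) (b : G) : Subgroup G := ⨆ s : Q, cj (s : G) (XX W b)

/-- `E_b` -/
def EB (E Q W : Subgroup G) (b : G) : Subgroup G := E ⊓ XQ Q W b

theorem cj_sup (g : G) (H K : Subgroup G) : cj g (H ⊔ K) = cj g H ⊔ cj g K := Subgroup.map_sup _ _ _

theorem cj_iSup {ι : Sort*} (g : G) (F : ι → Subgroup G) : cj g (⨆ i, F i) = ⨆ i, cj g (F i) :=
  Subgroup.map_iSup _ _

namespace Ctx

variable [Finite G] (h : Ctx S P Q E L V)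
include h

theorem cj_bau {g : G} (hg : g ∈ P) : cj g (bau (S : Subgroup G)) = bau (S : Subgroup G) :=
  cj_eq_of_mem_normalizer (h.nB hg)

theorem cj_zj {g : G} (hg : g ∈ P) : cj g (zj (S : Subgroup G)) = zj (S : Subgroup G) := by
  have h1 := normalizer_le_of_cj (F := zj) zj_cj (bau (S : Subgroup G)) (h.nB hg)
  rw [ChoiceBase.zj_bau] at h1
  exact cj_eq_of_mem_normalizer h1

theorem cj_E {g : G} (hg : g ∈ P) : cj g E = E := cj_eq_of_mem_normalizer (h.PE hg)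

theorem cj_Q {g : G} (hg : g ∈ P) : cj g Q = Q := cj_eq_of_mem_normalizer (h.PQ hg)

theorem pb {g : G} (hg : g ∈ P) : PB (S : Subgroup G) (cj g L) (cj g V) := h.k.cjn (h.nB hg)

theorem QL_cj {g : G} (hg : g ∈ P) :
    QL (S : Subgroup G) (cj g V) = cj g (QL (S : Subgroup G) V) := PB.QL_cjn (h.nB hg)

theorem conj_bau {g b : G} (hg : g ∈ P) (hb : b ∈ bau (S : Subgroup G)) :
    g * b * g⁻¹ ∈ bau (S : Subgroup G) := conj_mem_of_norm h.nB hg hb

/-- `Q` does not move the elements of `E`. -/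
theorem commQ {s e : G} (hs : s ∈ Q) (he : e ∈ E) (hc : ∀ l ∈ L, l * e = e * l) :
    ∀ l ∈ cj s L, l * e = e * l := by
  intro l hl
  obtain ⟨l', hl', rfl⟩ := mem_cj_iff.1 hl
  have h1 : e = s * e * s⁻¹ := by rw [h.QE s hs e he]; group
  calc s * l' * s⁻¹ * e = s * l' * s⁻¹ * (s * e * s⁻¹) := by rw [← h1]
    _ = s * (l' * e) * s⁻¹ := by group
    _ = s * (e * l') * s⁻¹ := by rw [hc l' hl']
    _ = (s * e * s⁻¹) * (s * l' * s⁻¹) := by group
    _ = e * (s * l' * s⁻¹) := by rw [← h1]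

/-- Blocks with the same `C_B(V)`. -/
theorem same {y d : G} (hy : y ∈ P) (hyn : cj y (QL (S : Subgroup G) V) = QL (S : Subgroup G) V)
    (hd : d ∈ E) (hd1 : d ≠ 1) (hL : ∀ l ∈ L, l * d = d * l) (hL' : ∀ l ∈ cj y L, l * d = d * l) :
    cj y (V ⊔ zj (S : Subgroup G)) = V ⊔ zj (S : Subgroup G) := by
  have h1 := same' h.hG S h.k (h.pb hy) hd1 (h.EZ hd) hL hL' (by rw [h.QL_cj hy, hyn])
  refine Subgroup.eq_of_le_of_card_ge ?_ (card_cj _ _).ge
  rw [cj_sup, h.cj_zj hy]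
  exact sup_le h1 le_sup_right

/-- Blocks with different `C_B(V)`. -/
theorem apart {x y d b : G} (hx : x ∈ P) (hy : y ∈ P) (hd : d ∈ E) (hd1 : d ≠ 1)
    (hL : ∀ l ∈ cj y L, l * d = d * l) (hL' : ∀ l ∈ cj x L, l * d = d * l)
    (hne : cj y (QL (S : Subgroup G) V) ≠ cj x (QL (S : Subgroup G) V))
    (hb : b ∈ bau (S : Subgroup G)) :
    ∀ e ∈ cj x (XX (V ⊔ zj (S : Subgroup G)) b), ∀ l ∈ cj y L, l * e = e * l := by
  intro e he l hl
  obtain ⟨e', he', rfl⟩ := mem_cj_iff.1 he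
  obtain ⟨v, hv, rfl⟩ := (mem_XX h.k hb).1 he'
  have h1 := claim' h.hG S (h.pb hy) (h.pb hx) hd1 (h.EZ hd) hL hL'
    (by rwa [h.QL_cj hy, h.QL_cj hx]) (x * b * x⁻¹) (h.conj_bau hx hb) (x * v * x⁻¹)
    (conj_mem_cj hv)
  rw [comm_el] at h1
  exact mem_centralizer_iff.1 h1 l hl

/-- `N_Q(C_B(V))` normalises `X_b`. -/
theorem cj_XX_eq {b s : G} (hb : Good (S : Subgroup G) Q V b) (hs : s ∈ Q)
    (hn : cj s (QL (S : Subgroup G) V) = QL (S : Subgroup G) V) :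
    cj s (XX (V ⊔ zj (S : Subgroup G)) b) = XX (V ⊔ zj (S : Subgroup G)) b := by
  obtain ⟨d, hd, hd1, hL⟩ := h.nK
  have h1 := h.same (h.QP hs) hn hd hd1 hL (h.commQ hs hd hL)
  rw [cj_XX, h1]
  have h2 := hb.fix s hs (mem_normalizer_iff_cj.2 hn)
  have e : s * b * s⁻¹ = b * (b⁻¹ * (s * b * s⁻¹)) := by group
  rw [e, XX_coset h.k hb.mem h2]

theorem cj_XX_ne {b s t : G} (hb : Good (S : Subgroup G) Q V b) (hs : s ∈ Q) (ht : t ∈ Q)
    (hne : cj s (XX (V ⊔ zj (S : Subgroup G)) b) ≠ cj t (XX (V ⊔ zj (S : Subgroup G)) b)) :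
    cj s (QL (S : Subgroup G) V) ≠ cj t (QL (S : Subgroup G) V) := by
  intro he
  apply hne
  have h1 : cj (t⁻¹ * s) (QL (S : Subgroup G) V) = QL (S : Subgroup G) V := by
    rw [← cj_cj, he, cj_inv_cj]
  have h2 := h.cj_XX_eq hb (mul_mem (inv_mem ht) hs) h1
  have h3 := congrArg (cj t) h2
  rw [cj_cj] at h3
  rwa [show t * (t⁻¹ * s) = s by group] at h3

theorem XX_le_zj {b s : G} (hb : b ∈ bau (S : Subgroup G)) (hs : s ∈ P) :
    cj s (XX (V ⊔ zj (S : Subgroup G)) b) ≤ zj (S : Subgroup G) := by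
  have h1 := cj_mono s (XB.XX_le_zj h.k hb)
  rwa [h.cj_zj hs] at h1

/-- `X_b^s ∩ C(L^s) = 1` -/
theorem XX_disj {b s x : G} (hb : b ∈ bau (S : Subgroup G))
    (hx : x ∈ cj s (XX (V ⊔ zj (S : Subgroup G)) b)) (hc : ∀ l ∈ cj s L, l * x = x * l) :
    x = 1 := by
  obtain ⟨x', hx', rfl⟩ := mem_cj_iff.1 hx
  rw [XB.XX_disj h.k hb hx' fun l hl => comm_conj_iff.1 (hc _ (conj_mem_cj hl))]
  group

/-- An element of `⟨X_b^s | s ∈ Q⟩` centralised by all `L^s` is trivial. -/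
theorem XQ_disj {b : G} (hb : Good (S : Subgroup G) Q V b) {e : G}
    (he : e ∈ XQ Q (V ⊔ zj (S : Subgroup G)) b) (hc : ∀ s ∈ Q, ∀ l ∈ cj s L, l * e = e * l) :
    e = 1 := by
  classical
  haveI : Fintype Q := Fintype.ofFinite _
  set X := XX (V ⊔ zj (S : Subgroup G)) b with hX
  have hXz : ∀ s : Q, cj (s : G) X ≤ zj (S : Subgroup G) := fun s =>
    h.XX_le_zj hb.mem (h.QP s.2)
  have hzz : ∀ a ∈ zj (S : Subgroup G), ∀ c ∈ zj (S : Subgroup G), a * c = c * a := by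
    intro a ha c hc
    have h1 : IsElementaryAbelian 2 (zj (S : Subgroup G)) := by
      rw [← ChoiceBase.zc_bau]
      exact ZN.isElementaryAbelian_zc _
    exact elem_comm h1 a ha c hc
  obtain ⟨d, hd, hd1, hL⟩ := h.nK
  have key : ∀ F : Finset Q, ∀ e ∈ (⨆ s ∈ F, cj (s : G) X : Subgroup G),
      (∀ s ∈ Q, ∀ l ∈ cj s L, l * e = e * l) → e = 1 := by
    intro F
    induction F using Finset.induction_on with
    | empty =>
      intro e he _
      simpa using he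
    | insert s0 F hs0 ih =>
      intro e he hc
      rw [Finset.iSup_insert] at he
      by_cases hex : ∃ s ∈ F, cj (s : G) X = cj (s0 : G) X
      · obtain ⟨s, hs, hse⟩ := hex
        refine ih e ?_ hc
        have h1 : cj (s0 : G) X ≤ ⨆ s ∈ F, cj (s : G) X := by
          rw [← hse]
          exact le_iSup₂ (f := fun (s : Q) (_ : s ∈ F) => cj (s : G) X) s hs
        rwa [sup_eq_right.2 h1] at he
      · push Not at hex
        have hle : (⨆ s ∈ F, cj (s : G) X : Subgroup G) ≤ zj (S : Subgroup G) :=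
          iSup₂_le fun s _ => hXz s
        obtain ⟨x, hx, e', he', rfl⟩ := mem_sup_comm
          (fun a ha c hc => hzz a (hXz s0 ha) c (hle hc)) he
        have h2 : ∀ l ∈ cj (s0 : G) L, l * e' = e' * l := by
          have h3 : (⨆ s ∈ F, cj (s : G) X : Subgroup G) ≤
              centralizer (cj (s0 : G) L : Set G) := by
            refine iSup₂_le fun s hs y hy => mem_centralizer_iff.2 fun l hl => ?_
            refine h.apart (h.QP s.2) (h.QP s0.2) hd hd1 (h.commQ s0.2 hd hL)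
              (h.commQ s.2 hd hL) (h.cj_XX_ne hb s0.2 s.2 (Ne.symm (hex s hs))) hb.mem y hy l hl
          exact fun l hl => mem_centralizer_iff.1 (h3 he') l hl
        have h4 : x = 1 := by
          refine h.XX_disj hb.mem hx fun l hl => ?_
          have h5 := hc s0 s0.2 l hl
          have h6 := h2 l hl
          have h7 : l * x * e' = x * l * e' := by
            calc l * x * e' = l * (x * e') := by group
              _ = x * (e' * l) := by rw [h5]; group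
              _ = x * l * e' := by rw [← h6]; group
          exact mul_right_cancel h7
        subst h4
        rw [one_mul] at hc ⊢
        exact ih e' he' hc
  refine key Finset.univ e ?_ hc
  have h1 : XQ Q (V ⊔ zj (S : Subgroup G)) b ≤ ⨆ s ∈ (Finset.univ : Finset Q), cj (s : G) X :=
    iSup_le fun s => le_iSup₂ (f := fun (s : Q) (_ : s ∈ (Finset.univ : Finset Q)) =>
      cj (s : G) X) s (Finset.mem_univ s)
  exact h1 he

/-- `E_b ∩ C_E(L) = 1` -/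
theorem EB_disj {b : G} (hb : Good (S : Subgroup G) Q V b) {e : G}
    (he : e ∈ EB E Q (V ⊔ zj (S : Subgroup G)) b) (hc : ∀ l ∈ L, l * e = e * l) : e = 1 :=
  h.XQ_disj hb (mem_inf.1 he).2 fun _ hs => h.commQ hs (mem_inf.1 he).1 hc

/-- The norm of an element of `C_{X_b}(N_Q(C_B(V)))`. -/
theorem norm {b x : G} (hb : Good (S : Subgroup G) Q V b)
    (hx : x ∈ XX (V ⊔ zj (S : Subgroup G)) b)
    (hx1 : ∀ s ∈ Q ⊓ normalizer (QL (S : Subgroup G) V : Set G), s * x = x * s) :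
    ∃ y ∈ EB E Q (V ⊔ zj (S : Subgroup G)) b, y * x⁻¹ ∈ centralizer (L : Set G) := by
  have hZel : IsElementaryAbelian 2 (zj (S : Subgroup G)) := by
    rw [← ChoiceBase.zc_bau]
    exact ZN.isElementaryAbelian_zc _
  obtain ⟨d, hd, hd1, hL⟩ := h.nK
  have hxz : x ∈ zj (S : Subgroup G) := XB.XX_le_zj h.k hb.mem hx
  have hQz : Q ≤ normalizer (zj (S : Subgroup G) : Set G) := fun s hs =>
    mem_normalizer_iff_cj.2 (h.cj_zj (h.QP hs))
  obtain ⟨y, hy, hyD, hyQ, hyx⟩ := NO3b.FPB.Main.exists_prod (S := Q)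
    (S₁ := Q ⊓ normalizer (QL (S : Subgroup G) V : Set G)) (C := centralizer (L : Set G))
    (D := XQ Q (V ⊔ zj (S : Subgroup G)) b) hZel hQz hxz hx1 (by
      intro s hs hns
      refine mem_centralizer_iff.2 fun l hl => ?_
      have hl1 : l ∈ cj 1 L := by rwa [cj_one]
      refine h.apart (h.QP hs) (one_mem P) hd hd1 (by rwa [cj_one]) (h.commQ hs hd hL) (fun h1 =>
        hns ⟨hs, mem_normalizer_iff_cj.2 (by rw [← h1, cj_one])⟩) hb.mem _ (conj_mem_cj hx) l hl1)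
    (fun s hs => le_iSup (fun s : Q => cj (s : G) (XX (V ⊔ zj (S : Subgroup G)) b)) ⟨s, hs⟩
      (conj_mem_cj hx))
  have hyE : y ∈ E := h.CE y hy hyQ
  exact ⟨y, mem_inf.2 ⟨hyE, hyD⟩, hyx⟩

/-- `E = E_b C_E(L)` -/
theorem EB_split {b : G} (hb : Good (S : Subgroup G) Q V b) {e : G} (he : e ∈ E) :
    ∃ u ∈ EB E Q (V ⊔ zj (S : Subgroup G)) b, ∃ c ∈ E, (∀ l ∈ L, l * c = c * l) ∧ e = u * c := by
  set X := XX (V ⊔ zj (S : Subgroup G)) b with hX
  have hZel : IsElementaryAbelian 2 (zj (S : Subgroup G)) := by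
    rw [← ChoiceBase.zc_bau]
    exact ZN.isElementaryAbelian_zc _
  have hzz : ∀ a ∈ zj (S : Subgroup G), ∀ c ∈ zj (S : Subgroup G), a * c = c * a :=
    fun a ha c hc => elem_comm hZel a ha c hc
  obtain ⟨d, hd, hd1, hL⟩ := h.nK
  obtain ⟨x, hx, c, hc, hlc, e1⟩ := split_XX h.k hb.mem hb.not (h.EZ he)
  have hxz : x ∈ zj (S : Subgroup G) := XB.XX_le_zj h.k hb.mem hx
  -- `x` is centralised by `N_Q(C_B(V))`
  have hx1 : ∀ s ∈ Q ⊓ normalizer (QL (S : Subgroup G) V : Set G), s * x = x * s := by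
    rintro s ⟨hs, hsn⟩
    have hsn' := mem_normalizer_iff_cj.1 hsn
    have h1 : s * x * s⁻¹ ∈ X := by
      have h2 := conj_mem_cj (g := s) hx
      rwa [h.cj_XX_eq hb hs hsn'] at h2
    have h2 : s * c * s⁻¹ ∈ zj (S : Subgroup G) := by
      have h3 := conj_mem_cj (g := s) hc
      rwa [h.cj_zj (h.QP hs)] at h3
    have h3 := h.nrm s hs hsn c hc hlc
    have h4 : s * e * s⁻¹ = e := by rw [h.QE s hs e he]; group
    have h5 : x⁻¹ * (s * x * s⁻¹) = c * (s * c * s⁻¹)⁻¹ := by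
      rw [e1] at h4
      have h6 : s * (x * c) * s⁻¹ = (s * x * s⁻¹) * (s * c * s⁻¹) := by group
      rw [h6] at h4
      calc x⁻¹ * (s * x * s⁻¹) = x⁻¹ * ((s * x * s⁻¹) * (s * c * s⁻¹)) * (s * c * s⁻¹)⁻¹ := by
            group
        _ = x⁻¹ * (x * c) * (s * c * s⁻¹)⁻¹ := by rw [h4]
        _ = _ := by group
    have h6 : x⁻¹ * (s * x * s⁻¹) = 1 := by
      refine XB.XX_disj h.k hb.mem (mul_mem (inv_mem hx) h1) fun l hl => ?_
      rw [h5]
      have h7 : Commute l (c * (s * c * s⁻¹)⁻¹) :=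
        (show Commute l c from hlc l hl).mul_right
          (show Commute l (s * c * s⁻¹) from h3 l hl).inv_right
      exact h7.eq
    have h7 : s * x * s⁻¹ = x := by
      calc s * x * s⁻¹ = x * (x⁻¹ * (s * x * s⁻¹)) := by group
        _ = x := by rw [h6, mul_one]
    calc s * x = (s * x * s⁻¹) * s := by group
      _ = x * s := by rw [h7]
  obtain ⟨y, hy, hyx⟩ := h.norm hb hx hx1
  have hyE : y ∈ E := (mem_inf.1 hy).1
  refine ⟨y, hy, y⁻¹ * e, mul_mem (inv_mem hyE) he, fun l hl => ?_, by group⟩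
  have h1 : y⁻¹ * e = (y * x⁻¹)⁻¹ * (x⁻¹ * e) := by
    have h2 : y⁻¹ * x = x * y⁻¹ := hzz _ (inv_mem (h.EZ hyE)) _ hxz
    calc y⁻¹ * e = (y⁻¹ * x) * (x⁻¹ * e) := by group
      _ = (x * y⁻¹) * (x⁻¹ * e) := by rw [h2]
      _ = _ := by group
  have h3 : x⁻¹ * e = c := by rw [e1]; group
  rw [h1, h3]
  have h4 : Commute l (y * x⁻¹) := mem_centralizer_iff.1 hyx l hl
  exact (h4.inv_right.mul_right (show Commute l c from hlc l hl)).eq

/-- `E_b ≠ 1` -/
theorem EB_ne {b : G} (hb : Good (S : Subgroup G) Q V b) :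
    ∃ e ∈ EB E Q (V ⊔ zj (S : Subgroup G)) b, e ≠ 1 := by
  set X := XX (V ⊔ zj (S : Subgroup G)) b with hX
  set Q1 := Q ⊓ normalizer (QL (S : Subgroup G) V : Set G) with hQ1
  have hX2 : IsPGroup 2 X := (S.isPGroup'.to_le (ChoiceBase.bau_le _)).to_le
    ((XB.XX_le_zj h.k hb.mem).trans fun z hz => by
      rw [← ChoiceBase.zc_bau] at hz
      exact (ChoiceBase.mem_zc.1 hz).1)
  have hQX : Q1 ≤ normalizer (X : Set G) := fun s hs =>
    mem_normalizer_iff_cj.2 (h.cj_XX_eq hb hs.1 (mem_normalizer_iff_cj.1 hs.2))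
  have hne : ¬ X ≤ (⊥ : Subgroup G) := by
    intro hle
    obtain ⟨v, hv, hvn⟩ : ∃ v ∈ V, b * v ≠ v * b := by
      by_contra hcon
      push Not at hcon
      exact hb.not (mem_QL.2 ⟨hb.mem, hcon⟩)
    have h1 := hle (mem_XX_of (b := b) (mem_sup_left (T := zj (S : Subgroup G)) hv))
    exact hvn (comm_iff.2 (mem_bot.1 h1))
  obtain ⟨x, hx, hx1, hxs⟩ := NO3b.FPB.Main.exists_fixed_coset (P := (⊥ : Subgroup G))
    (IsPGroup.to_sup_of_normal_left' hX2 (h.Q2.to_le inf_le_left) hQX) le_sup_left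
    (sup_le Subgroup.le_normalizer hQX)
    (by rw [normalizer_eq_top (H := (⊥ : Subgroup G))]; exact le_top) bot_le hne
  have hx2 : ∀ s ∈ Q1, s * x = x * s := by
    intro s hs
    have h1 : x⁻¹ * (s * x * s⁻¹) = 1 := mem_bot.1 (hxs s (mem_sup_right hs))
    calc s * x = x * (x⁻¹ * (s * x * s⁻¹)) * s := by group
      _ = x * s := by rw [h1, mul_one]
  obtain ⟨y, hy, hyx⟩ := h.norm hb hx hx2
  refine ⟨y, hy, fun hy1 => hx1 ?_⟩
  rw [hy1, one_mul] at hyx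
  rw [mem_bot]
  refine XB.XX_disj h.k hb.mem hx fun l hl => ?_
  have h2 : Commute l x⁻¹ := mem_centralizer_iff.1 hyx l hl
  exact (Commute.inv_right_iff.1 h2).eq

/-- `P_L^y ≠ P_L^s` for all `s ∈ Q`: then `E_b ≤ C(L^y)`. -/
theorem apartQ {y d b : G} (hy : y ∈ P) (hd : d ∈ E) (hd1 : d ≠ 1) (hL : ∀ l ∈ L, l * d = d * l)
    (hL' : ∀ l ∈ cj y L, l * d = d * l)
    (hne : ∀ s ∈ Q, cj y (QL (S : Subgroup G) V) ≠ cj s (QL (S : Subgroup G) V))
    (hb : b ∈ bau (S : Subgroup G)) :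
    ∀ e ∈ EB E Q (V ⊔ zj (S : Subgroup G)) b, ∀ l ∈ cj y L, l * e = e * l := by
  intro e he l hl
  have h1 : XQ Q (V ⊔ zj (S : Subgroup G)) b ≤ centralizer (cj y L : Set G) := by
    refine iSup_le fun s x hx => mem_centralizer_iff.2 fun l hl => ?_
    exact h.apart (h.QP s.2) hy hd hd1 hL' (h.commQ s.2 hd hL) (hne s s.2) hb x hx l hl
  exact mem_centralizer_iff.1 (h1 (mem_inf.1 he).2) l hl

/-- Equivariance. -/
theorem cj_EB {y b : G} (hy : y ∈ P)
    (hW : cj y (V ⊔ zj (S : Subgroup G)) = V ⊔ zj (S : Subgroup G)) :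
    cj y (EB E Q (V ⊔ zj (S : Subgroup G)) b) =
      EB E Q (V ⊔ zj (S : Subgroup G)) (y * b * y⁻¹) := by
  unfold EB XQ
  rw [cj_inf, h.cj_E hy, cj_iSup]
  congr 1
  refine le_antisymm (iSup_le fun s => ?_) (iSup_le fun s => ?_)
  · have hs : y * (s : G) * y⁻¹ ∈ Q := conj_mem_of_norm h.PQ hy s.2
    refine le_trans (le_of_eq ?_) (le_iSup (fun s : Q => cj (s : G)
      (XX (V ⊔ zj (S : Subgroup G)) (y * b * y⁻¹))) ⟨_, hs⟩)
    change cj y (cj (s : G) (XX (V ⊔ zj (S : Subgroup G)) b)) =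
      cj (y * (s : G) * y⁻¹) (XX (V ⊔ zj (S : Subgroup G)) (y * b * y⁻¹))
    have h1 := cj_XX y (V ⊔ zj (S : Subgroup G)) b
    rw [hW] at h1
    rw [← h1, cj_cj, cj_cj]
    congr 1
    group
  · have hs : y⁻¹ * (s : G) * y ∈ Q := conj_mem_of_norm' h.PQ hy s.2
    refine le_trans (le_of_eq ?_) (le_iSup (fun s : Q => cj y (cj (s : G)
      (XX (V ⊔ zj (S : Subgroup G)) b))) ⟨_, hs⟩)
    change cj (s : G) (XX (V ⊔ zj (S : Subgroup G)) (y * b * y⁻¹)) =
      cj y (cj (y⁻¹ * (s : G) * y) (XX (V ⊔ zj (S : Subgroup G)) b))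
    have h1 := cj_XX y (V ⊔ zj (S : Subgroup G)) b
    rw [hW] at h1
    rw [← h1, cj_cj, cj_cj]
    congr 1
    group

/-- `E_b` depends only on the coset. -/
theorem EB_coset {b p : G} (hb : b ∈ bau (S : Subgroup G)) (hp : p ∈ QL (S : Subgroup G) V) :
    EB E Q (V ⊔ zj (S : Subgroup G)) (b * p) = EB E Q (V ⊔ zj (S : Subgroup G)) b := by
  unfold EB XQ
  rw [XX_coset h.k hb hp]

/-- Conjugates of good elements are good. -/
theorem good_conj {y b : G} (hb : Good (S : Subgroup G) Q V b) (hy : y ∈ P)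
    (hyn : y ∈ normalizer (QL (S : Subgroup G) V : Set G)) :
    Good (S : Subgroup G) Q V (y * b * y⁻¹) where
  mem := h.conj_bau hy hb.mem
  not := fun h1 => hb.not ((mem_normalizer_iff.1 hyn b).2 h1)
  fix := by
    intro s hs hsn
    have h1 := hb.fix (y⁻¹ * s * y) (conj_mem_of_norm' h.PQ hy hs)
      (mul_mem (mul_mem (inv_mem hyn) hsn) hyn)
    have h2 := (mem_normalizer_iff.1 hyn _).1 h1
    have e : y * (b⁻¹ * (y⁻¹ * s * y * b * (y⁻¹ * s * y)⁻¹)) * y⁻¹ =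
        (y * b * y⁻¹)⁻¹ * (s * (y * b * y⁻¹) * s⁻¹) := by group
    rwa [e] at h2

end Ctx

/-- A 2-group normalising `P < B` fixes a coset: existence of good elements. -/
theorem exists_good [Finite G] (k : PB (S : Subgroup G) L V) {R : Subgroup G} (h2 : IsPGroup 2 R)
    (hRB : R ≤ normalizer (bau (S : Subgroup G) : Set G))
    (hRP : R ≤ normalizer (QL (S : Subgroup G) V : Set G)) :
    ∃ b ∈ bau (S : Subgroup G), b ∉ QL (S : Subgroup G) V ∧
      ∀ s ∈ R, b⁻¹ * (s * b * s⁻¹) ∈ QL (S : Subgroup G) V := by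
  have hB2 : IsPGroup 2 (bau (S : Subgroup G)) := S.isPGroup'.to_le (ChoiceBase.bau_le _)
  have hBP : bau (S : Subgroup G) ≤ normalizer (QL (S : Subgroup G) V : Set G) :=
    k.top.BL.trans k.top.LP
  have h3 : IsPGroup 2 (bau (S : Subgroup G) ⊔ R : Subgroup G) :=
    IsPGroup.to_sup_of_normal_left' hB2 h2 hRB
  obtain ⟨A, hA, hAP⟩ := k.top.off
  have hne : ¬ bau (S : Subgroup G) ≤ QL (S : Subgroup G) V := fun h =>
    hAP (((le_jj hA).trans (ChoiceBase.jj_le_bau _)).trans h)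
  obtain ⟨b, hb, hbP, hbS⟩ := NO3b.FPB.Main.exists_fixed_coset h3 le_sup_left
    (sup_le Subgroup.le_normalizer hRB) (sup_le hBP hRP) Bk.PB hne
  exact ⟨b, hb, hbP, fun s hs => hbS s (mem_sup_right hs)⟩

end Cfsg.Agent.Omega.NSix.NoBlk.Core
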