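import Cfsg.Agent.Omega.NSix.NoBlk.Pair

/-!
# THEOREM BL* (OMEGA #18620, helper107), part 6: `N_T(C_B(N_i))` normalises `C_{Z_J}(L)`

`T ∈ Syl₂(H)`, `B = bau T`, `Y = Z_J V` normal in `H`, `D ≤ V` centralised by `B`, `[V, B] ≤ D`:

* `lemN` : `g ∈ H`, `D^g = D` imply `Z_J^g = Z_J` (`⟨B, B^g⟩` is a 2-group modulo `C(Y)`);
* `nrm_of` : the conclusion (N) from `(b x) D = (s x) D`;
* `nrmK`, `nrmS` : (N) for the blocks `BauK.BlkK`, `BauS.Blk`.
-/

set_option autoImplicit false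

namespace Cfsg.Agent.Omega.NSix.NoBlk.Nrm

open Subgroup Cfsg Cfsg.Agent.PLocal.ThompsonJ Cfsg.Agent.ZN Cfsg.Agent.ZN.ChoiceBase
open Cfsg.Agent.ZN.ChoiceSit
open Cfsg.Agent.Omega.SQ1.Bau (elem_comm elem_sq mem_sup_comm card_sup_comm Mv mv_inv)
open Cfsg.Agent.Omega.SQ1.BauK.InK (QL mem_QL not_QL St mem_St)
open Cfsg.Agent.Omega.SQ1 (BauK.InK BauK.BlkK)
open Cfsg.Agent.Omega.SQ1.BauK (V1 mem_V1)
open Cfsg.Agent.Omega.NO3b.FPB.Base Cfsg.Agent.Omega.NO3b.FPB.Claim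

universe u w

variable {G : Type u} [Group G]

/-- `D = K R` -/
theorem mem_mul_of [Finite G] {X K R : Subgroup G} (hKn : X ≤ normalizer (K : Set G)) (hKX : K ≤ X)
    (hq : ∀ x ∈ X, ∃ n : ℕ, x ^ 2 ^ n ∈ K) (hR : Syl R X) {x : G} (hx : x ∈ X) :
    ∃ r ∈ R, ∃ c ∈ K, x = r * c := by
  haveI : Fact (Nat.Prime 2) := ⟨Nat.prime_two⟩
  haveI hn : (K.subgroupOf X).Normal := by
    rw [normal_subgroupOf_iff_le_normalizer hKX]
    exact hKn
  have h2 : IsPGroup 2 (X ⧸ K.subgroupOf X) := by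
    intro y
    obtain ⟨z, rfl⟩ := QuotientGroup.mk'_surjective (K.subgroupOf X) y
    obtain ⟨n, hn⟩ := hq z z.2
    refine ⟨n, ?_⟩
    rw [← map_pow, QuotientGroup.mk'_apply, QuotientGroup.eq_one_iff, mem_subgroupOf]
    simpa using hn
  -- the Sylow subgroup of `X`
  have hR2 : IsPGroup 2 (R.subgroupOf X) := hR.2.1.comap_of_injective _ Subtype.val_injective
  obtain ⟨P, hP⟩ := hR2.exists_le_sylow
  have hPR : (P : Subgroup X) = R.subgroupOf X := by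
    refine le_antisymm ?_ hP
    have h3 : (P : Subgroup X).map X.subtype = R := by
      refine hR.2.2 _ (Subgroup.map_subtype_le _) (P.isPGroup'.map _) ?_
      intro r hr
      exact ⟨⟨r, hR.1 hr⟩, hP (mem_subgroupOf.2 hr), rfl⟩
    intro p hp
    rw [mem_subgroupOf, ← h3]
    exact ⟨p, hp, rfl⟩
  have h4 : (P : Subgroup X) ⊔ K.subgroupOf X = ⊤ := by
    rw [← Subgroup.index_eq_one]
    set I := ((P : Subgroup X) ⊔ K.subgroupOf X).index with hI
    have h5 : I ∣ (P : Subgroup X).index := Subgroup.index_dvd_of_le le_sup_left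
    have h6 : I ∣ (K.subgroupOf X).index := Subgroup.index_dvd_of_le le_sup_right
    obtain ⟨n, hn⟩ := IsPGroup.iff_card.1 h2
    have h7 : (K.subgroupOf X).index = 2 ^ n := hn
    rw [h7] at h6
    obtain ⟨j, -, hj⟩ := (Nat.dvd_prime_pow Nat.prime_two).1 h6
    rcases Nat.eq_zero_or_pos j with h8 | h8
    · rw [hj, h8, pow_zero]
    · exfalso
      refine P.not_dvd_index ((dvd_pow_self 2 h8.ne').trans ?_)
      rw [← hj]
      exact h5
  have h5 : (⟨x, hx⟩ : X) ∈ (P : Subgroup X) ⊔ K.subgroupOf X := by rw [h4]; trivial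
  rw [Subgroup.mem_sup_of_normal_right] at h5
  obtain ⟨r, hr, c, hc, hrc⟩ := h5
  rw [hPR] at hr
  exact ⟨r, mem_subgroupOf.1 hr, c, mem_subgroupOf.1 hc, by
    rw [← Subgroup.coe_mul, hrc]⟩

/-- Two 2-subgroups are contained in a 2-subgroup after conjugation by an element of the kernel. -/
theorem conj_kernel [Finite G] {X K B B' : Subgroup G} (hKn : X ≤ normalizer (K : Set G))
    (hKX : K ≤ X) (hq : ∀ x ∈ X, ∃ n : ℕ, x ^ 2 ^ n ∈ K) (hB : IsPGroup 2 B)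
    (hB' : IsPGroup 2 B') (hBX : B ≤ X) (hBX' : B' ≤ X) :
    ∃ c ∈ K, ∃ R ≤ X, IsPGroup 2 R ∧ B ≤ R ∧ cj c B' ≤ R := by
  obtain ⟨R, hR, hBR⟩ := exists_syl hB hBX
  obtain ⟨R', hR', hBR'⟩ := exists_syl hB' hBX'
  obtain ⟨d, hd, hdR⟩ := syl_conj hR' hR
  obtain ⟨r, hr, c, hc, rfl⟩ := mem_mul_of hKn hKX hq hR hd
  refine ⟨c, hc, R, hR.1, hR.2.1, hBR, (cj_mono c hBR').trans ?_⟩
  have h1 : cj c R' = cj r⁻¹ R := by
    rw [← hdR, cj_cj]
    congr 1
    group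
  rw [h1, cj_eq_of_mem_normalizer (Subgroup.le_normalizer (inv_mem hr))]

/-- `D^g = D` implies `Z_J^g = Z_J`. -/
theorem lemN [Finite G] {H T V D : Subgroup G} (hT : Syl T H)
    (hZV : ∀ z ∈ zj T, ∀ v ∈ V, z * v = v * z) (hVc : ∀ v ∈ V, ∀ w ∈ V, v * w = w * v)
    (hVsq : ∀ v ∈ V, v ^ 2 = 1) (hVn : ∀ g ∈ H, ∀ v ∈ V, g * v * g⁻¹ ∈ V)
    (hYn : ∀ g ∈ H, ∀ y ∈ zj T ⊔ V, g * y * g⁻¹ ∈ zj T ⊔ V) (hDV : D ≤ V)
    (hBD : ∀ b ∈ bau T, ∀ x ∈ D, b * x = x * b)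
    (hVB : ∀ b ∈ bau T, ∀ v ∈ V, b * v * b⁻¹ * v⁻¹ ∈ D)
    {g : G} (hg : g ∈ H) (hgD : cj g D = D) : cj g (zj T) = zj T := by
  have hBH : bau T ≤ H := (ChoiceBase.bau_le T).trans hT.1
  have hB2 : IsPGroup 2 (bau T) := hT.2.1.to_le (ChoiceBase.bau_le T)
  set Y := zj T ⊔ V with hY
  have hYc : ∀ y ∈ Y, ∀ v ∈ V, y * v = v * y := by
    intro y hy v hv
    obtain ⟨z, hz, w, hw, rfl⟩ := mem_sup_comm hZV hy
    calc z * w * v = z * (w * v) := by group
      _ = (z * v) * w := by rw [hVc w hw v hv]; group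
      _ = v * (z * w) := by rw [hZV z hz v hv]; group
  -- the group of the elements acting quadratically
  let A : Subgroup G :=
    { carrier := {x | x ∈ H ∧ (∀ w ∈ D, x * w = w * x) ∧ (∀ v ∈ V, x * v * x⁻¹ * v⁻¹ ∈ D) ∧
        ∀ y ∈ Y, x * y * x⁻¹ * y⁻¹ ∈ V}
      mul_mem' := by
        rintro a b ⟨ha1, ha2, ha3, ha4⟩ ⟨hb1, hb2, hb3, hb4⟩
        have e : ∀ y : G, a * b * y * (a * b)⁻¹ * y⁻¹ =
            (a * (b * y * b⁻¹ * y⁻¹) * a⁻¹) * (a * y * a⁻¹ * y⁻¹) := fun y => by group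
        refine ⟨mul_mem ha1 hb1, fun w hw => ?_, fun v hv => ?_, fun y hy => ?_⟩
        · calc a * b * w = a * (b * w) := by group
            _ = (a * w) * b := by rw [hb2 w hw]; group
            _ = w * (a * b) := by rw [ha2 w hw]; group
        · rw [e]
          refine mul_mem ?_ (ha3 v hv)
          rw [ha2 _ (hb3 v hv), mul_inv_cancel_right]
          exact hb3 v hv
        · rw [e]
          exact mul_mem (hVn a ha1 _ (hb4 y hy)) (ha4 y hy)
      one_mem' := ⟨one_mem _, fun w _ => by group, fun v _ => by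
        have e : (1 : G) * v * 1⁻¹ * v⁻¹ = 1 := by group
        rw [e]; exact one_mem _, fun y _ => by
        have e : (1 : G) * y * 1⁻¹ * y⁻¹ = 1 := by group
        rw [e]; exact one_mem _⟩
      inv_mem' := by
        rintro a ⟨ha1, ha2, ha3, ha4⟩
        have e : ∀ y : G, a⁻¹ * y * a⁻¹⁻¹ * y⁻¹ = a⁻¹ * (a * y * a⁻¹ * y⁻¹)⁻¹ * a := fun y => by
          group
        refine ⟨inv_mem ha1, fun w hw => ?_, fun v hv => ?_, fun y hy => ?_⟩
        · exact ((show Commute a w from ha2 w hw).inv_left).eq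
        · rw [e]
          have h1 : a⁻¹ * (a * v * a⁻¹ * v⁻¹)⁻¹ = (a * v * a⁻¹ * v⁻¹)⁻¹ * a⁻¹ :=
            ((show Commute a _ from ha2 _ (inv_mem (ha3 v hv))).inv_left).eq
          rw [h1, inv_mul_cancel_right]
          exact inv_mem (ha3 v hv)
        · rw [e]
          have h1 := hVn a⁻¹ (inv_mem ha1) _ (inv_mem (ha4 y hy))
          rwa [inv_inv] at h1 }
  have hBA : bau T ≤ A := by
    intro b hb
    refine ⟨hBH hb, hBD b hb, hVB b hb, fun y hy => ?_⟩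
    obtain ⟨z, hz, w, hw, rfl⟩ := mem_sup_comm hZV hy
    have h1 : b * z = z * b := ((mem_bau.1 hb).2 z hz).symm
    have h2 : b * w * b⁻¹ ∈ V := hVn b (hBH hb) w hw
    have e : b * (z * w) * b⁻¹ * (z * w)⁻¹ = z * (b * w * b⁻¹ * w⁻¹) * z⁻¹ := by
      calc b * (z * w) * b⁻¹ * (z * w)⁻¹ = (b * z) * w * b⁻¹ * w⁻¹ * z⁻¹ := by group
        _ = _ := by rw [h1]; group
    rw [e, hZV z hz _ (mul_mem h2 (inv_mem hw)), mul_inv_cancel_right]
    exact mul_mem h2 (inv_mem hw)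
  have hgD' : ∀ w ∈ D, g⁻¹ * w * g ∈ D := by
    intro w hw
    rw [← hgD] at hw
    exact mem_cj.1 hw
  have hVn' : ∀ v ∈ V, g⁻¹ * v * g ∈ V := fun v hv => by
    have := hVn g⁻¹ (inv_mem hg) v hv
    rwa [inv_inv] at this
  have hYn' : ∀ y ∈ Y, g⁻¹ * y * g ∈ Y := fun y hy => by
    have := hYn g⁻¹ (inv_mem hg) y hy
    rwa [inv_inv] at this
  have hBA' : cj g (bau T) ≤ A := by
    intro b' hb'
    obtain ⟨b, hb, rfl⟩ := mem_cj_iff.1 hb'
    obtain ⟨h1, h2, h3, h4⟩ := hBA hb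
    have e : ∀ y : G, g * b * g⁻¹ * y * (g * b * g⁻¹)⁻¹ * y⁻¹ =
        g * (b * (g⁻¹ * y * g) * b⁻¹ * (g⁻¹ * y * g)⁻¹) * g⁻¹ := fun y => by group
    refine ⟨mul_mem (mul_mem hg h1) (inv_mem hg), fun w hw => ?_, fun v hv => ?_, fun y hy => ?_⟩
    · have h5 := comm_conj (g := g) (h2 _ (hgD' w hw))
      have e1 : g * (g⁻¹ * w * g) * g⁻¹ = w := by group
      rwa [e1] at h5
    · rw [e, ← hgD]
      exact conj_mem_cj (h3 _ (hVn' v hv))
    · rw [e]
      exact hVn g hg _ (h4 _ (hYn' y hy))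
  set X := bau T ⊔ cj g (bau T) with hX
  have hXA : X ≤ A := sup_le hBA hBA'
  set K := X ⊓ centralizer (Y : Set G) with hK
  have hXY : ∀ x ∈ X, ∀ y ∈ Y, x * y * x⁻¹ ∈ Y := fun x hx y hy => hYn x (hXA hx).1 y hy
  have hKn : X ≤ normalizer (K : Set G) := by
    intro x hx
    refine mem_normalizer_of_cj_le ?_
    rintro _ ⟨c, hc, rfl⟩
    change x * c * x⁻¹ ∈ X ⊓ centralizer (Y : Set G)
    refine mem_inf.2 ⟨mul_mem (mul_mem hx hc.1) (inv_mem hx), mem_centralizer_iff.2 fun y hy => ?_⟩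
    have h1 := hXY x⁻¹ (inv_mem hx) y hy
    have h2 := comm_conj (g := x) (mem_centralizer_iff.1 hc.2 _ h1)
    have e1 : x * (x⁻¹ * y * x⁻¹⁻¹) * x⁻¹ = y := by group
    rw [e1] at h2
    exact h2
  have hq : ∀ x ∈ X, ∃ n : ℕ, x ^ 2 ^ n ∈ K := by
    intro x hx
    obtain ⟨h1, h2, h3, h4⟩ := hXA hx
    -- `x²` centralises `V`
    have h5 : ∀ v ∈ V, x * x * v = v * (x * x) := by
      intro v hv
      have h6 : x * v * x⁻¹ = v * (x * v * x⁻¹ * v⁻¹) := by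
        rw [hVc v hv _ (hDV (h3 v hv))]
        group
      set c := x * v * x⁻¹ * v⁻¹ with hc
      have hcD : c ∈ D := h3 v hv
      have hcc : c * c = 1 := by rw [← pow_two]; exact hVsq c (hDV hcD)
      calc x * x * v = x * (x * v * x⁻¹) * x := by group
        _ = x * (v * c) * x := by rw [h6]
        _ = (x * v * x⁻¹) * (x * c) * x := by group
        _ = (v * c) * (c * x) * x := by rw [h6, h2 c hcD]
        _ = v * (c * c) * (x * x) := by group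
        _ = v * (x * x) := by rw [hcc, mul_one]
    refine ⟨2, pow_mem hx _, mem_centralizer_iff.2 fun y hy => ?_⟩
    have h6 : x * x * y * (x * x)⁻¹ * y⁻¹ ∈ V := by
      have e : x * x * y * (x * x)⁻¹ * y⁻¹ =
          (x * (x * y * x⁻¹ * y⁻¹) * x⁻¹) * (x * y * x⁻¹ * y⁻¹) := by group
      rw [e]
      exact mul_mem (hVn x h1 _ (h4 y hy)) (h4 y hy)
    set a := x * x with ha
    set c := a * y * a⁻¹ * y⁻¹ with hc
    have h7 : a * y * a⁻¹ = c * y := by rw [hc]; group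
    have hcc : c * c = 1 := by rw [← pow_two]; exact hVsq c h6
    have h8 : a * c * a⁻¹ = c := by rw [h5 c h6]; group
    have h9 : x ^ 2 ^ 2 = a * a := by
      rw [ha, show (2 : ℕ) ^ 2 = 2 + 2 by norm_num, pow_add, pow_two]
    rw [h9]
    have h10 : a * a * y * (a * a)⁻¹ = y := by
      calc a * a * y * (a * a)⁻¹ = a * (a * y * a⁻¹) * a⁻¹ := by group
        _ = a * (c * y) * a⁻¹ := by rw [h7]
        _ = (a * c * a⁻¹) * (a * y * a⁻¹) := by group
        _ = c * (c * y) := by rw [h8, h7]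
        _ = (c * c) * y := by group
        _ = y := by rw [hcc, one_mul]
    calc y * (a * a) = (a * a * y * (a * a)⁻¹) * (a * a) := by rw [h10]
      _ = a * a * y := by group
  obtain ⟨c, hc, R, hRX, hR2, hBR, hBR'⟩ := conj_kernel hKn inf_le_left hq hB2
    (isPGroup_cj g hB2) le_sup_left le_sup_right
  -- `B` is weakly closed
  have hRH : R ≤ H := fun x hx => (hXA (hRX hx)).1
  have hcH : c ∈ H := (hXA hc.1).1
  obtain ⟨S', hS', hle⟩ := exists_syl hR2 hRH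
  obtain ⟨x, -, hx⟩ := syl_conj hS' hT
  have hk : key R ≤ key T := by
    refine (key_mono hle).trans ?_
    rw [← hx, key_cj]
  have h1 : bau R = bau T := by
    obtain ⟨-, -, h3, -⟩ := of_key_le hBR hk
    exact h3
  have h2 : bau R = cj (c * g) (bau T) := by
    rw [cj_cj, ← bau_cj] at hBR'
    have hk' : key R ≤ key (cj (c * g) T) := by rwa [key_cj]
    obtain ⟨-, -, h3, -⟩ := of_key_le hBR' hk'
    rw [h3, bau_cj]
  have h3 : cj (c * g) (zj T) = zj T := by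
    rw [← ChoiceBase.zj_bau T, ← zj_cj, ← h2, h1]
  have h4 : cj c⁻¹ (zj T) = zj T := by
    apply cj_eq_of_mem_normalizer
    refine inv_mem (centralizer_le_normalizer _ (mem_centralizer_iff.2 fun z hz => ?_))
    exact mem_centralizer_iff.1 hc.2 z (mem_sup_left (T := V) hz)
  calc cj g (zj T) = cj c⁻¹ (cj (c * g) (zj T)) := by
        rw [cj_cj]
        congr 1
        group
    _ = zj T := by rw [h3, h4]

/-- The conclusion (N) from a conjugate of `D`. -/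
theorem nrm_of [Finite G] {H T D L V' Y' : Subgroup G} (bk : Bk T Y' L V')
    (hN : ∀ g ∈ H, cj g D = D → cj g (zj T) = zj T) (hLH : L ≤ H) (hTH : T ≤ H)
    {x b s : G} (hx : x ∈ L) (hm : Mv (ln T V') x) (hb : b ∈ bau T) (hs : s ∈ T)
    (hD : cj (b * x) D = cj (s * x) D) {z : G} (hz : z ∈ zj T) (hc : ∀ l ∈ L, l * z = z * l) :
    ∀ l ∈ L, l * (s * z * s⁻¹) = (s * z * s⁻¹) * l := by
  have hsz : s * z * s⁻¹ ∈ zj T := SQ1.Bau.In.T_norm_Z T hs hz
  have h1 : cj ((b * x)⁻¹ * (s * x)) D = D := by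
    rw [← cj_cj, ← hD, cj_inv_cj]
  have h2 := hN _ (mul_mem (inv_mem (mul_mem (hLH (bk.BL hb)) (hLH hx)))
    (mul_mem (hTH hs) (hLH hx))) h1
  have h3 : cj (s * x) (zj T) = cj (b * x) (zj T) := by
    have h4 := congrArg (cj (b * x)) h2
    rw [cj_cj] at h4
    rwa [show b * x * ((b * x)⁻¹ * (s * x)) = s * x by group] at h4
  have h4 : s * z * s⁻¹ ∈ cj (b * x) (zj T) := by
    rw [← h3]
    have h5 : z = x * z * x⁻¹ := by rw [hc x hx]; group
    have h6 : s * z * s⁻¹ = (s * x) * z * (s * x)⁻¹ := by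
      conv_lhs => rw [h5]
      group
    rw [h6]
    exact conj_mem_cj hz
  have hbm : Mv (ln T V') (b * x) := by
    obtain ⟨v, hv, hne⟩ := hm
    refine ⟨v, hv, fun h5 => hne ?_⟩
    have h6 := (mem_ln.1 h5)
    have e : x * v * x⁻¹ = b⁻¹ * (b * x * v * (b * x)⁻¹) * b := by group
    have h7 : b⁻¹ * (b * x * v * (b * x)⁻¹) * b = b * x * v * (b * x)⁻¹ := by
      have h8 := (mem_bau.1 hb).2 _ h6.2
      rw [mul_assoc, h8]
      group
    rw [e, h7]
    exact h5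
  have h5 := NO3b.FPB.Claim.Bk.inter bk (mul_mem (bk.BL hb) hx) hbm hsz (mem_cj.1 h4)
  exact fun l hl => mem_centralizer_iff.1 h5 l hl

/-! ### Natural modules -/

section K

open Cfsg.Agent.Omega.SQ1.BauK
open Cfsg.Agent.Omega.NSix.NoBlk.Pair

variable [Finite G] {H T Q V V0 L : Subgroup G} {ι : Type} {N A : ι → Subgroup G} {q : ℕ} {i : ι}

/-- `D = ⟨V1 ∩ N j⟩` -/
def DK (T V : Subgroup G) (N : ι → Subgroup G) : Subgroup G := ⨆ j, (V1 T V ⊓ N j)

theorem le_DK (T V : Subgroup G) (N : ι → Subgroup G) (j : ι) : V1 T V ⊓ N j ≤ DK T V N :=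
  le_iSup (fun j => V1 T V ⊓ N j) j

theorem DK_le : DK T V N ≤ V1 T V := iSup_le fun _ => inf_le_left

theorem cj_V1 (h : InK H T Q V V0 N A q) {s : G} (hs : s ∈ T) : cj s (V1 T V) = V1 T V := by
  have h1 : cj s V = V :=
    cj_eq_of_mem_normalizer (InK.norm_of_conj fun v hv => h.Vn s (h.TH hs) v hv)
  have h2 : cj s (jj T) = jj T := by
    rw [← jj_cj, cj_eq_of_mem_normalizer (Subgroup.le_normalizer hs)]
  unfold V1
  rw [cj_inf, h1, cj_centralizer, h2]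

theorem T_bau {s : G} (hs : s ∈ T) : s ∈ normalizer (bau T : Set G) :=
  normalizer_le_bau T (Subgroup.le_normalizer hs)

/-- An element of `T` normalising `C_B(N i)` normalises `N i`. -/
theorem s_norm (h : InK H T Q V V0 N A q) {s : G} (hs : s ∈ T)
    (hn : s ∈ normalizer (QL T (N i) : Set G)) : cj s (N i) = N i := by
  obtain ⟨j, hj⟩ := h.Nperm s (h.TH hs) i
  by_cases hij : i = j
  · rw [hj, ← hij]
  exfalso
  obtain ⟨a, ha, -, v, hv, hne⟩ := h.A_exists i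
  have h1 : QL T (N j) = QL T (N i) := by
    rw [← hj, PB.QL_cjn (T_bau hs), mem_normalizer_iff_cj.1 hn]
  have h2 : a ∈ QL T (N j) := mem_QL.2 ⟨ChoiceBase.jj_le_bau T (le_jj (h.AT i) ha),
    fun w hw => h.Acent i j hij a ha w hw⟩
  rw [h1] at h2
  exact hne ((mem_QL.1 h2).2 v hv)

/-- The lines outside `ℓ_i` are conjugate under `A i`. -/
theorem line_eq (k : BlkK H T V N i L) (h : InK H T Q V V0 N A q) {x x' : G}
    (hx : x ∈ St H (N i)) (hx' : x' ∈ St H (N i)) (hm : Mv (V1 T V ⊓ N i) x)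
    (hm' : Mv (V1 T V ⊓ N i) x') :
    ∃ a ∈ A i, cj (a * x) (V1 T V ⊓ N i) = cj x' (V1 T V ⊓ N i) := by
  -- a vector of the line
  obtain ⟨v0, hv0, hv00⟩ : ∃ v0 ∈ V1 T V ⊓ N i, v0 ∉ V0 := by
    by_contra hcon
    push Not at hcon
    have h1 : Nat.card ↥(V1 T V ⊓ N i) ≤ Nat.card V0 := Subgroup.card_le_of_le hcon
    rw [h.card0 i] at h1
    have hp : 0 < Nat.card V0 := Nat.card_pos
    have h2 : Nat.card V0 * 2 ≤ Nat.card V0 * q := Nat.mul_le_mul_left _ h.one_lt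
    omega
  set u := x * v0 * x⁻¹ with hu
  have huN : u ∈ N i := (mem_normalizer_iff.1 hx.2 v0).1 hv0.2
  have hu1 : u ∉ V1 T V := by
    intro h1
    have h2 := (h.pl i).opp x hx hm v0 hv0 ⟨h1, huN⟩
    have h3 := h.V0n x⁻¹ (inv_mem hx.1) _ h2
    apply hv00
    have e : x⁻¹ * (x * v0 * x⁻¹) * x⁻¹⁻¹ = v0 := by group
    rwa [e] at h3
  obtain ⟨a1, ha1, b1, hb1, he⟩ := (h.pl i).split hx' hm' huN
  obtain ⟨a, ha, z, hz, hau⟩ := NO3b.FPB.OfInK.exists_comm k h huN hu1 (inv_mem ha1)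
  have haJ : a ∈ jj T := le_jj (h.AT i) ha
  have haS : a ∈ St H (N i) := ⟨h.TH (ChoiceBase.jj_le T haJ), h.N_le_normalizer i haJ⟩
  have hVc := h.Vcomm
  have ha1V : a1 ∈ V := h.NV i ha1.2
  have hzV : z ∈ V := h.NV i (h.V0N i hz)
  have h1 : a * u * a⁻¹ = z * (x' * b1 * x'⁻¹) := by
    calc a * u * a⁻¹ = (a * u * a⁻¹ * u⁻¹) * u := by group
      _ = a1⁻¹ * z * (a1 * (x' * b1 * x'⁻¹)) := by rw [hau, ← he]
      _ = a1⁻¹ * (z * a1) * (x' * b1 * x'⁻¹) := by group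
      _ = a1⁻¹ * (a1 * z) * (x' * b1 * x'⁻¹) := by rw [hVc z hzV a1 ha1V]
      _ = _ := by group
  have h2 : x'⁻¹ * (a * u * a⁻¹) * x' ∈ V1 T V ⊓ N i := by
    rw [h1]
    have e : x'⁻¹ * (z * (x' * b1 * x'⁻¹)) * x' = (x'⁻¹ * z * x'⁻¹⁻¹) * b1 := by group
    rw [e]
    exact mul_mem (h.V0V1 i (h.V0n x'⁻¹ (inv_mem hx'.1) z hz)) hb1
  refine ⟨a, ha, ?_⟩
  -- `g = x'⁻¹ a x` does not move the line
  have hgS : x'⁻¹ * (a * x) ∈ St H (N i) := mul_mem (inv_mem hx') (mul_mem haS hx)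
  have h3 : ¬ Mv (V1 T V ⊓ N i) (x'⁻¹ * (a * x)) := by
    intro hmg
    have e : x'⁻¹ * (a * x) * v0 * (x'⁻¹ * (a * x))⁻¹ = x'⁻¹ * (a * u * a⁻¹) * x' := by
      rw [hu]; group
    have h4 := (h.pl i).opp _ hgS hmg v0 hv0 (by rw [e]; exact h2)
    have h5 := h.V0n _ (inv_mem hgS.1) _ h4
    apply hv00
    have e2 : (x'⁻¹ * (a * x))⁻¹ * (x'⁻¹ * (a * x) * v0 * (x'⁻¹ * (a * x))⁻¹) *
        (x'⁻¹ * (a * x))⁻¹⁻¹ = v0 := by group
    rwa [e2] at h5
  have h4 : cj (x'⁻¹ * (a * x)) (V1 T V ⊓ N i) ≤ V1 T V ⊓ N i := by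
    rintro _ ⟨v, hv, rfl⟩
    by_contra hc
    exact h3 ⟨v, hv, hc⟩
  have h5 : cj (x'⁻¹ * (a * x)) (V1 T V ⊓ N i) = V1 T V ⊓ N i :=
    Subgroup.eq_of_le_of_card_ge h4 (card_cj _ _).ge
  have h6 := congrArg (cj x') h5
  rw [cj_cj] at h6
  rwa [show x' * (x'⁻¹ * (a * x)) = a * x by group] at h6

/-- `PP` centralises the other lines. -/
theorem PP_cent (h : InK H T Q V V0 N A q) {x v : G} (hx : x ∈ PP H T V N i) {j : ι} (hij : i ≠ j)
    (hv : v ∈ V1 T V ⊓ N j) : x * v = v * x := by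
  obtain ⟨r, hr, b, hb, rfl⟩ := h.mem_PP hx
  have h1 := h.bau_V1 hb hv.1
  have h2 := (mem_RR.1 hr).2.2.1 j hij v hv.2
  calc r * b * v = r * (b * v) := by group
    _ = (r * v) * b := by rw [h1]; group
    _ = v * (r * b) := by rw [h2]; group

theorem cj_fix {x : G} {A : Subgroup G} (hx : ∀ v ∈ A, x * v = v * x) : cj x A = A :=
  cj_eq_of_mem_normalizer (centralizer_le_normalizer _ (mem_centralizer_iff.2 fun v hv =>
    (hx v hv).symm))

/-- **(N)** for natural modules. -/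
theorem nrmK (k : BlkK H T V N i L) (h : InK H T Q V V0 N A q) {s : G} (hs : s ∈ T)
    (hn : s ∈ normalizer (QL T (NO3b.FPB.OfInK.N0 N i L) : Set G)) {z : G} (hz : z ∈ zj T)
    (hc : ∀ l ∈ L, l * z = z * l) : ∀ l ∈ L, l * (s * z * s⁻¹) = (s * z * s⁻¹) * l := by
  rw [NO3b.FPB.OfInK.QL_N0 k h] at hn
  have hsN := s_norm h hs hn
  have hsS : s ∈ St H (N i) := mem_St.2 ⟨h.TH hs, hsN⟩
  obtain ⟨x, hx, hm⟩ := k.mv
  have hxS : x ∈ St H (N i) := k.LS h hx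
  have hsx : cj s (V1 T V ⊓ N i) = V1 T V ⊓ N i := by rw [cj_inf, cj_V1 h hs, hsN]
  have hm' : Mv (V1 T V ⊓ N i) (s * x) := by
    obtain ⟨v, hv, hne⟩ := hm
    refine ⟨v, hv, fun h1 => hne ?_⟩
    rw [← hsx] at h1
    have h2 := mem_cj.1 h1
    have e : s⁻¹ * (s * x * v * (s * x)⁻¹) * s = x * v * x⁻¹ := by group
    rwa [e] at h2
  obtain ⟨b, hbA, hb⟩ := line_eq k h hxS (mul_mem hsS hxS) hm hm'
  have hbB : b ∈ bau T := ChoiceBase.jj_le_bau T (le_jj (h.AT i) hbA)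
  have hD : cj (b * x) (DK T V N) = cj (s * x) (DK T V N) := by
    refine Subgroup.eq_of_le_of_card_ge ?_ (by rw [card_cj, card_cj])
    conv_lhs => rw [DK, cj, Subgroup.map_iSup]
    refine iSup_le fun j => ?_
    change cj (b * x) (V1 T V ⊓ N j) ≤ _
    by_cases hij : i = j
    · subst hij
      rw [hb]
      exact cj_mono _ (le_DK T V N i)
    · have h1 : cj (b * x) (V1 T V ⊓ N j) = V1 T V ⊓ N j := by
        rw [← cj_cj, cj_fix (A := V1 T V ⊓ N j) fun v hv => PP_cent h (k.LP hx) hij hv,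
          cj_fix (A := V1 T V ⊓ N j) fun v hv => h.bau_V1 hbB (mem_inf.1 hv).1]
      rw [h1]
      obtain ⟨j', hj'⟩ := h.Nperm s⁻¹ (inv_mem (h.TH hs)) j
      have hij' : i ≠ j' := by
        rintro rfl
        have h2 : N j = N i := by
          have h3 := congrArg (cj s) hj'
          rw [cj_cj_inv, hsN] at h3
          exact h3
        apply h.V0_lt i
        have := h.Ninf i j hij
        rwa [h2, inf_idem] at this
      have h2 : cj (s * x) (V1 T V ⊓ N j') = V1 T V ⊓ N j := by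
        rw [← cj_cj, cj_fix (A := V1 T V ⊓ N j') fun v hv => PP_cent h (k.LP hx) hij' hv, cj_inf, cj_V1 h hs, ← hj',
          cj_cj_inv]
      rw [← h2]
      exact cj_mono _ (le_DK T V N j')
  haveI : Nonempty ι := ⟨i⟩
  refine nrm_of (H := H) (D := DK T V N) (NO3b.FPB.OfInK.bk k h (Y := ⊤) le_top
    (PB.le_norm_top L)) (fun g hg hgD => lemN h.syl h.ZcV h.Vcomm h.Vsq h.Vn h.Y_norm
      (DK_le.trans InK.V1V) (fun b hb x hx => h.bau_V1 hb (DK_le hx)) ?_ hg hgD)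
    (k.LH h) h.TH hx ((NO3b.FPB.OfInK.Mv_ln k h hx).2 hm) hbB hs hD hz hc
  -- `[V, B] ≤ D`
  intro b hb v hv
  have hbH : b ∈ H := h.TH (ChoiceBase.bau_le T hb)
  let U : Subgroup G :=
    { carrier := {w | w ∈ V ∧ b * w * b⁻¹ * w⁻¹ ∈ DK T V N}
      mul_mem' := by
        rintro x y ⟨hx, hx'⟩ ⟨hy, hy'⟩
        refine ⟨mul_mem hx hy, ?_⟩
        have hyV : b * y * b⁻¹ * y⁻¹ ∈ V := mul_mem (h.Vn b hbH y hy) (inv_mem hy)
        have e : b * (x * y) * b⁻¹ * (x * y)⁻¹ =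
          (b * x * b⁻¹) * ((b * y * b⁻¹ * y⁻¹) * x⁻¹) := by group
        rw [e, h.Vcomm _ hyV _ (inv_mem hx), ← mul_assoc]
        exact mul_mem hx' hy'
      one_mem' := ⟨one_mem _, by simp⟩
      inv_mem' := by
        rintro x ⟨hx, hx'⟩
        refine ⟨inv_mem hx, ?_⟩
        have hxV : b * x * b⁻¹ ∈ V := h.Vn b hbH x hx
        have e : b * x⁻¹ * b⁻¹ * x⁻¹⁻¹ = (b * x * b⁻¹)⁻¹ * x := by group
        rw [e, h.Vcomm _ (inv_mem hxV) _ hx]
        have e2 : x * (b * x * b⁻¹)⁻¹ = (b * x * b⁻¹ * x⁻¹)⁻¹ := by group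
        rw [e2]
        exact inv_mem hx' }
  have hU : (⨆ j, N j) ≤ U :=
    iSup_le fun j w hw => ⟨h.NV j hw, le_DK T V N j (h.bau_quad hb hw)⟩
  exact (hU (h.Nsup hv)).2

end K

/-! ### Symmetric type -/

section S

open Cfsg.Agent.Omega.SQ1.BauS
open Cfsg.Agent.Omega.NSix.NoBlk.Pair

variable [Finite G] {H T Q V L : Subgroup G} {ι : Type w} {N : ι → Subgroup G} {d t r : ι → G}
  {i : ι}

/-- An element of `T` normalising `C_B(N i)` centralises `d i` and normalises `N i`. -/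
theorem s_fix (h : In H T Q V N d t r) {s : G} (hs : s ∈ T)
    (hn : s ∈ normalizer (QL T (N i) : Set G)) :
    s * d i * s⁻¹ = d i ∧ ∀ v ∈ N i, s * v * s⁻¹ ∈ N i := by
  obtain ⟨j, hj, hjN⟩ := h.perm s hs i
  by_cases hij : i = j
  · subst hij
    exact ⟨hj, hjN⟩
  exfalso
  apply h.t_not_QQ i
  have h1 : s⁻¹ * t i * s ∈ QL T (N i) := by
    refine mem_QL.2 ⟨conj_mem_of_norm' (normalizer_le_bau T) (Subgroup.le_normalizer hs)
      (h.t_bau i), fun v hv => ?_⟩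
    have h2 := h.t_N' (Ne.symm hij) (hjN v hv)
    have h3 : t i * (s * v * s⁻¹) = (s * v * s⁻¹) * t i := by
      calc t i * (s * v * s⁻¹) = (t i * (s * v * s⁻¹) * (t i)⁻¹) * t i := by group
        _ = _ := by rw [h2]
    calc s⁻¹ * t i * s * v = s⁻¹ * (t i * (s * v * s⁻¹)) * s := by group
      _ = s⁻¹ * ((s * v * s⁻¹) * t i) * s := by rw [h3]
      _ = v * (s⁻¹ * t i * s) := by group
  have h2 := (mem_normalizer_iff.1 hn _).1 h1
  have e : s * (s⁻¹ * t i * s) * s⁻¹ = t i := by group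
  rwa [e] at h2

/-- **(N)** for symmetric type. -/
theorem nrmS (hT : Syl T H) (k : Blk H T V d r i L) (h : In H T Q V N d t r) {s : G} (hs : s ∈ T)
    (hn : s ∈ normalizer (QL T (N i) : Set G)) {z : G} (hz : z ∈ zj T)
    (hc : ∀ l ∈ L, l * z = z * l) : ∀ l ∈ L, l * (s * z * s⁻¹) = (s * z * s⁻¹) * l := by
  obtain ⟨hsd, hsN⟩ := s_fix h hs hn
  obtain ⟨x, hx, hm⟩ := k.mv
  set e := x * d i * x⁻¹ with he
  have heN : e ∈ N i := k.L_N h hx (h.dN i)
  have he1 : e ≠ 1 := fun h1 => h.d1 i (by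
    calc d i = x⁻¹ * (x * d i * x⁻¹) * x := by group
      _ = 1 := by rw [← he, h1]; group)
  have hse : s * e * s⁻¹ ∈ N i := hsN e heN
  have hse1 : s * e * s⁻¹ ≠ 1 := fun h1 => he1 (by
    calc e = s⁻¹ * (s * e * s⁻¹) * s := by group
      _ = 1 := by rw [h1]; group)
  have hsed : s * e * s⁻¹ ≠ d i := fun h1 => hm (by
    calc e = s⁻¹ * (s * e * s⁻¹) * s := by group
      _ = s⁻¹ * (s * d i * s⁻¹) * s := by rw [h1, hsd]
      _ = d i := by group)
  -- `b e b⁻¹ = s e s⁻¹`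
  set m := r i * d i * (r i)⁻¹ with hmdef
  have htm : t i * m * (t i)⁻¹ = d i * m := h.t_m i
  have htdm : t i * (d i * m) * (t i)⁻¹ = m := by
    have e1 : t i * (d i * m) * (t i)⁻¹ = (t i * d i * (t i)⁻¹) * (t i * m * (t i)⁻¹) := by group
    rw [e1, h.t_d i, htm, ← mul_assoc, h.mulself (h.dV i), one_mul]
  obtain ⟨b, hb, hbe⟩ : ∃ b ∈ bau T, b * e * b⁻¹ = s * e * s⁻¹ := by
    rcases h.mem_N i heN with h1 | h1 | h1 | h1
    · exact absurd h1 he1
    · exact absurd h1 hm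
    · rcases h.mem_N i hse with h2 | h2 | h2 | h2
      · exact absurd h2 hse1
      · exact absurd h2 hsed
      · exact ⟨1, one_mem _, by rw [h2, h1]; group⟩
      · exact ⟨t i, h.t_bau i, by rw [h2, h1]; exact htm⟩
    · rcases h.mem_N i hse with h2 | h2 | h2 | h2
      · exact absurd h2 hse1
      · exact absurd h2 hsed
      · exact ⟨t i, h.t_bau i, by rw [h2, h1]; exact htdm⟩
      · exact ⟨1, one_mem _, by rw [h2, h1]; group⟩
  have hxd : ∀ j, i ≠ j → x * d j * x⁻¹ = d j := fun j hij => by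
    rw [NO3b.FPB.OfS.cent_d k h hij x hx]; group
  have hD : cj (b * x) (closure (Set.range d)) = cj (s * x) (closure (Set.range d)) := by
    refine Subgroup.eq_of_le_of_card_ge ?_ (by rw [card_cj, card_cj])
    change Subgroup.map _ _ ≤ _
    rw [Subgroup.map_le_iff_le_comap, closure_le]
    rintro _ ⟨j, rfl⟩
    change b * x * d j * (b * x)⁻¹ ∈ cj (s * x) (closure (Set.range d))
    by_cases hij : i = j
    · subst hij
      have e1 : b * x * d i * (b * x)⁻¹ = s * x * d i * (s * x)⁻¹ := by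
        calc b * x * d i * (b * x)⁻¹ = b * (x * d i * x⁻¹) * b⁻¹ := by group
          _ = s * (x * d i * x⁻¹) * s⁻¹ := hbe
          _ = _ := by group
      rw [e1]
      exact conj_mem_cj (subset_closure ⟨i, rfl⟩)
    · have e1 : b * x * d j * (b * x)⁻¹ = d j := by
        calc b * x * d j * (b * x)⁻¹ = b * (x * d j * x⁻¹) * b⁻¹ := by group
          _ = b * d j * b⁻¹ := by rw [hxd j hij]
          _ = d j := (h.EE_good (h.bau_EE hb)).fixd j
      rw [e1]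
      obtain ⟨j', hj', -⟩ := h.perm s⁻¹ (inv_mem hs) j
      have hij' : i ≠ j' := by
        rintro rfl
        apply hij
        refine (h.d_inj ?_).symm
        calc d j = s * (s⁻¹ * d j * s⁻¹⁻¹) * s⁻¹ := by group
          _ = s * d i * s⁻¹ := by rw [hj']
          _ = d i := hsd
      have e2 : d j = s * x * d j' * (s * x)⁻¹ := by
        calc d j = s * (s⁻¹ * d j * s⁻¹⁻¹) * s⁻¹ := by group
          _ = s * (x * d j' * x⁻¹) * s⁻¹ := by rw [hj', hxd j' hij']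
          _ = _ := by group
      rw [e2]
      exact conj_mem_cj (subset_closure ⟨j', rfl⟩)
  refine nrm_of (H := H) (D := closure (Set.range d)) (NO3b.FPB.OfS.bk k h (Y := ⊤) le_top
    (PB.le_norm_top L)) (fun g hg hgD => lemN hT h.ZcV h.Vcomm h.Vsq h.Vn (h.Y_norm i)
      h.D_le_V (fun b hb x hx => ?_) (fun b hb v hv => (h.EE_good (h.bau_EE hb)).comm v hv) hg hgD)
    (k.LH h) h.TH hx ((NO3b.FPB.OfS.mv_iff k h hx).2 hm) hb hs hD hz hc
  exact ((mem_bau.1 hb).2 x (h.D_le_Z hx)).symm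

end S

end Cfsg.Agent.Omega.NSix.NoBlk.Nrm
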