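import Cfsg.Agent.Omega.NO3b.FPB.Cen
import Cfsg.Agent.Omega.NO3b.FPB.OfStmt

/-!
# THEOREM BL* (OMEGA #18620, helper107), part 1: two Baumann blocks over the same `B` in a common 2-local

`PB S L V` : `(L, V)` is a Baumann block over `B = bau S`.

`G` of characteristic 2 type, `(L, V)`, `(L', V')` blocks over `B` centralising `1 ≠ d ∈ Z_J`:

* `claim'` : `C_B(V) ≠ C_B(V')` implies `[V', B] ≤ C(L)` (helper526's CLAIM);
* `same'` : `C_B(V) = C_B(V')` implies `V' ≤ V Z_J`.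
-/

set_option autoImplicit false

namespace Cfsg.Agent.Omega.NSix.NoBlk.Pair

open Subgroup Cfsg Cfsg.Agent.PLocal.ThompsonJ Cfsg.Agent.ZN Cfsg.Agent.ZN.ChoiceBase
open Cfsg.Agent.ZN.ChoiceSit
open Cfsg.Agent.Omega.SQ1.Bau (elem_comm elem_sq mem_sup_comm Mv mv_inv)
open Cfsg.Agent.Omega.SQ1.BauK.InK (QL mem_QL not_QL)
open Cfsg.Agent.Omega.NO3b.FPB.Base Cfsg.Agent.Omega.NO3b.FPB.Claim

universe u

variable {G : Type u} [Group G] {S T L V L' V' Y Y' : Subgroup G}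

theorem chg (k : Bk S Y L V) (h1 : V ≤ Y') (h2 : L ≤ normalizer (Y' : Set G)) : Bk S Y' L V :=
  { k with LY := h2, VY := h1 }

/-- A Baumann block over `B = bau S`. -/
structure PB (S L V : Subgroup G) : Prop where
  blk : LemmaK.Main.Blk (bau S) L V
  elem : IsElementaryAbelian 2 V
  top : Bk S ⊤ L V

namespace PB

theorem le_norm_top (L : Subgroup G) : L ≤ normalizer ((⊤ : Subgroup G) : Set G) := by
  rw [normalizer_eq_top]
  exact le_top

theorem bk (k : PB S L V) (h1 : V ≤ Y) (h2 : L ≤ normalizer (Y : Set G)) : Bk S Y L V :=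
  chg k.top h1 h2

theorem cjt [Finite G] (k : PB S L V) (g : G) : PB (cj g S) (cj g L) (cj g V) where
  blk := by rw [bau_cj]; exact k.blk.map g
  elem := isElementaryAbelian_cj g k.elem
  top := NO3b.FPB.Claim.Bk.conj k.top (cj_eq_of_mem_normalizer (le_norm_top ⊤ trivial))

theorem of_bau [Finite G] (k : PB T L V) (h : bau T = bau S) : PB S L V where
  blk := h ▸ k.blk
  elem := k.elem
  top := NO3b.FPB.Move.Bk.of_bau k.top h

/-- Conjugation by an element normalising `B`. -/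
theorem cjn [Finite G] (k : PB S L V) {g : G} (hg : g ∈ normalizer (bau S : Set G)) :
    PB S (cj g L) (cj g V) :=
  (k.cjt g).of_bau (by rw [bau_cj, cj_eq_of_mem_normalizer hg])

theorem Vz (k : PB S L V) {v z : G} (hv : v ∈ V) (hz : z ∈ zj S) : v * z = z * v := by
  obtain ⟨a, ha, c, -, hl, rfl⟩ := k.top.split z hz
  have h1 := elem_comm k.elem v hv a (mem_ln.1 ha).1
  have h2 := hl v (k.blk.VL hv)
  calc v * (a * c) = (v * a) * c := by group
    _ = a * (v * c) := by rw [h1]; group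
    _ = a * c * v := by rw [h2]; group

theorem QL_cjn [Finite G] {g : G} (hg : g ∈ normalizer (bau S : Set G)) :
    QL S (cj g V) = cj g (QL S V) := by
  unfold QL
  rw [cj_inf, cj_centralizer, cj_eq_of_mem_normalizer hg]

end PB

section

variable [Finite G]

theorem common (hG : IsCharacteristicTwoType G) (S : Sylow 2 G) (k : PB (S : Subgroup G) L V)
    (k' : PB (S : Subgroup G) L' V') {d : G} (hd1 : d ≠ 1) (hd : d ∈ zj (S : Subgroup G))
    (hL : ∀ l ∈ L, l * d = d * l) (hL' : ∀ l ∈ L', l * d = d * l) :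
    ∃ T Y : Subgroup G, IsPGroup 2 T ∧ bau (S : Subgroup G) ≤ T ∧
      bau T = bau (S : Subgroup G) ∧ IsElementaryAbelian 2 Y ∧ Y ≤ T ∧ V ≤ Y ∧ V' ≤ Y ∧
      L ≤ normalizer (Y : Set G) ∧ L' ≤ normalizer (Y : Set G) := by
  have hd2 : d ^ 2 = 1 := (ChoiceBase.mem_zj.1 hd).2.1
  have hU : IsPGroup 2 (zpowers d) := by
    refine IsPGroup.of_card (n := orderOf d |>.factorization 2) ?_
    rw [Nat.card_zpowers]
    have h1 : orderOf d ∣ 2 := orderOf_dvd_of_pow_eq_one hd2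
    rcases (Nat.dvd_prime Nat.prime_two).1 h1 with h2 | h2
    · exact absurd (orderOf_eq_one_iff.1 h2) hd1
    · rw [h2, Nat.prime_two.factorization_self, pow_one]
  have hU1 : zpowers d ≠ ⊥ := by rwa [Ne, zpowers_eq_bot]
  set H := normalizer ((zpowers d : Subgroup G) : Set G) with hH
  have hc := MinSimple.Basic.char2_normalizer hG hU hU1
  have key : ∀ M : Subgroup G, (∀ l ∈ M, l * d = d * l) → M ≤ H := by
    intro M hM
    refine le_trans (fun l hl => ?_) (centralizer_le_normalizer _)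
    rw [mem_centralizer_iff]
    rintro _ ⟨n, rfl⟩
    exact ((show Commute l d from hM l hl).zpow_right n).eq.symm
  have hLH := key L hL
  have hLH' := key L' hL'
  have hBH : bau (S : Subgroup G) ≤ H := k.blk.le.trans hLH
  have hB2 : IsPGroup 2 (bau (S : Subgroup G)) := S.isPGroup'.to_le (ChoiceBase.bau_le _)
  obtain ⟨T, hT, hBT⟩ := exists_syl hB2 hBH
  have hbT := LemmaK.Main.bau_eq S hT.2.1 hBT
  have hHY : H ≤ normalizer ((zc (o2 H) : Subgroup G) : Set G) :=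
    (ZN.le_normalizer_o2 H).trans (normalizer_le_normalizer_zc _)
  have hV : ∀ {L V : Subgroup G}, PB (S : Subgroup G) L V → L ≤ H → V ≤ zc (o2 H) := by
    intro L V k hLH v hv
    have h1 := k.blk.le_o2 S hc hLH hv
    exact ChoiceBase.mem_zc.2 ⟨h1.1, elem_sq k.elem v hv, fun x hx =>
      mem_centralizer_iff.1 h1.2 x hx⟩
  refine ⟨T, zc (o2 H), hT.2.1, hBT, hbT, ZN.isElementaryAbelian_zc _,
    fun z hz => o2_le_syl hT (ChoiceBase.mem_zc.1 hz).1, hV k hLH, hV k' hLH', hLH.trans hHY,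
    hLH'.trans hHY⟩

/-- helper526's CLAIM: `C_B(V) ≠ C_B(V') ⇒ [V', B] ≤ C(L)`. -/
theorem claim' (hG : IsCharacteristicTwoType G) (S : Sylow 2 G) (k : PB (S : Subgroup G) L V)
    (k' : PB (S : Subgroup G) L' V') {d : G} (hd1 : d ≠ 1) (hd : d ∈ zj (S : Subgroup G))
    (hL : ∀ l ∈ L, l * d = d * l) (hL' : ∀ l ∈ L', l * d = d * l)
    (hne : QL (S : Subgroup G) V ≠ QL (S : Subgroup G) V') :
    ∀ b ∈ bau (S : Subgroup G), ∀ v ∈ V', b * v * b⁻¹ * v⁻¹ ∈ centralizer (L : Set G) := by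
  obtain ⟨T, Y, -, -, hbT, hY, hYT, hVY, hVY', hLY, hLY'⟩ := common hG S k k' hd1 hd hL hL'
  have h1 := NO3b.FPB.Move.Bk.of_bau (k.bk hVY hLY) hbT.symm
  have h2 := NO3b.FPB.Move.Bk.of_bau (k'.bk hVY' hLY') hbT.symm
  have h3 := NO3b.FPB.CaseTwo.claim hY hYT h1 h2 (by
    unfold QL at hne ⊢
    rwa [hbT])
  rw [hbT] at h3
  exact h3

/-- `C_B(V) = C_B(V') ⇒ V' ≤ V Z_J`. -/
theorem same' (hG : IsCharacteristicTwoType G) (S : Sylow 2 G) (k : PB (S : Subgroup G) L V)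
    (k' : PB (S : Subgroup G) L' V') {d : G} (hd1 : d ≠ 1) (hd : d ∈ zj (S : Subgroup G))
    (hL : ∀ l ∈ L, l * d = d * l) (hL' : ∀ l ∈ L', l * d = d * l)
    (he : QL (S : Subgroup G) V = QL (S : Subgroup G) V') : V' ≤ V ⊔ zj (S : Subgroup G) := by
  obtain ⟨T, Y, -, hBT, hbT, hY, hYT, hVY, hVY', hLY, hLY'⟩ := common hG S k k' hd1 hd hL hL'
  have h1 := NO3b.FPB.Move.Bk.of_bau (k.bk hVY hLY) hbT.symm
  have hQ : QL T V = QL (S : Subgroup G) V := by unfold QL; rw [hbT]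
  obtain ⟨A, hA, hAP⟩ := h1.off
  obtain ⟨-, h2, h3, -⟩ := h1.order hY hYT h1.VY le_rfl ((BB.self Y A).star hA hYT hY) hAP
  intro v hv
  have hvP : ∀ p ∈ QL T V, p * v = v * p := by
    intro p hp
    rw [hQ, he] at hp
    exact (mem_QL.1 hp).2 v hv
  have h4 : v ∈ V ⊔ cW Y A := by
    rw [← h3]
    exact mem_cW.2 ⟨hVY' hv, fun e he => hvP e (mem_inf.1 he).2⟩
  obtain ⟨v1, hv1, c, hc, rfl⟩ := mem_sup_comm
    (fun a ha b hb => elem_comm hY a (h1.VY ha) b (cW_le Y A hb)) h4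
  refine mul_mem (mem_sup_left hv1) (mem_sup_right ?_)
  have hcY := cW_le Y A hc
  -- `c` centralises `B`
  have hcB : ∀ e ∈ bau T, e * c = c * e := by
    intro e he'
    obtain ⟨a, ha, p, hp, rfl⟩ := h2 e he'
    have hpc : p * c = c * p := by
      have h5 := hvP p hp
      have h6 : p * v1 = v1 * p := Bk.P_cent hp hv1
      have h7 : p * (v1 * c) = v1 * (p * c) := by rw [← mul_assoc, h6]; group
      rw [h7, mul_assoc v1 c p] at h5
      exact mul_left_cancel h5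
    have hac := (mem_cW.1 hc).2 a ha
    calc a * p * c = a * (p * c) := by group
      _ = (a * c) * p := by rw [hpc]; group
      _ = c * (a * p) := by rw [hac]; group
  rw [← NO3b.FPB.Move.zj_eq hbT, ← ChoiceBase.zc_bau T, ChoiceBase.mem_zc]
  refine ⟨mem_bau.2 ⟨hYT hcY, fun z hz => ?_⟩, elem_sq hY c hcY, fun x hx => hcB x hx⟩
  have h8 : z ∈ bau T := by
    rw [← ChoiceBase.zc_bau T] at hz
    exact (ChoiceBase.mem_zc.1 hz).1
  exact hcB z h8

end

end Cfsg.Agent.Omega.NSix.NoBlk.Pair
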