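import Cfsg.Agent.Omega.NSix.NoBlk.Pair

/-!
# THEOREM BL* (OMEGA #18620, helper107), part 2: the subgroups `X_b = [V, b]`

`XX W b` : the subgroup generated by the commutators `[b, w]`, `w ∈ W`.  For a Baumann block `(L, V)` over
`B = bau S`, `b ∈ B`, `W = V Z_J` it is `[V, b]`; if `b ∉ P = C_B(V)`, then `X_b ∩ C(L) = 1` and
`Z_J = X_b C_{Z_J}(L)` (`split_XX`).
-/

set_option autoImplicit false

namespace Cfsg.Agent.Omega.NSix.NoBlk.XB

open Subgroup Cfsg Cfsg.Agent.PLocal.ThompsonJ Cfsg.Agent.ZN Cfsg.Agent.ZN.ChoiceBase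
open Cfsg.Agent.ZN.ChoiceSit
open Cfsg.Agent.Omega.SQ1.Bau (elem_comm elem_sq mem_sup_comm card_sup_comm Mv mv_inv)
open Cfsg.Agent.Omega.SQ1.BauK.InK (QL mem_QL not_QL)
open Cfsg.Agent.Omega.NO3b.FPB.Base Cfsg.Agent.Omega.NO3b.FPB.Claim
open Cfsg.Agent.Omega.NSix.NoBlk.Pair

universe u

variable {G : Type u} [Group G] {S T L V L' V' Y Y' W : Subgroup G}

/-- The subgroup generated by the commutators `[b, w]`, `w ∈ W`. -/
def XX (W : Subgroup G) (b : G) : Subgroup G :=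
  Subgroup.closure {x | ∃ w ∈ W, x = b * w * b⁻¹ * w⁻¹}

theorem mem_XX_of {b w : G} (hw : w ∈ W) : b * w * b⁻¹ * w⁻¹ ∈ XX W b :=
  subset_closure ⟨w, hw, rfl⟩

theorem cj_XX (g : G) (W : Subgroup G) (b : G) : cj g (XX W b) = XX (cj g W) (g * b * g⁻¹) := by
  unfold XX
  change Subgroup.map _ _ = _
  rw [MonoidHom.map_closure]
  congr 1
  ext x
  constructor
  · rintro ⟨_, ⟨w, hw, rfl⟩, rfl⟩
    refine ⟨g * w * g⁻¹, conj_mem_cj hw, ?_⟩
    rw [comm_el]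
    rfl
  · rintro ⟨w', hw', rfl⟩
    obtain ⟨w, hw, rfl⟩ := mem_cj_iff.1 hw'
    refine ⟨b * w * b⁻¹ * w⁻¹, ⟨w, hw, rfl⟩, ?_⟩
    rw [comm_el]
    rfl

section

variable (k : PB S L V)
include k

theorem conj_V {b v : G} (hb : b ∈ bau S) (hv : v ∈ V) : b * v * b⁻¹ ∈ V :=
  conj_mem_of_norm k.top.LV (k.top.BL hb) hv

theorem comm_ln {b v : G} (hb : b ∈ bau S) (hv : v ∈ V) : b * v * b⁻¹ * v⁻¹ ∈ ln S V :=
  mem_ln.2 ⟨mul_mem (conj_V k hb hv) (inv_mem hv), k.top.quad b hb v hv⟩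

theorem mul_comm_el {b v w : G} (hb : b ∈ bau S) (hv : v ∈ V) (hw : w ∈ V) :
    b * (v * w) * b⁻¹ * (v * w)⁻¹ = b * v * b⁻¹ * v⁻¹ * (b * w * b⁻¹ * w⁻¹) := by
  have h1 := elem_comm k.elem _ (mul_mem (conj_V k hb hw) (inv_mem hw)) _ (inv_mem hv)
  calc b * (v * w) * b⁻¹ * (v * w)⁻¹ = b * v * b⁻¹ * (b * w * b⁻¹ * w⁻¹ * v⁻¹) := by group
    _ = b * v * b⁻¹ * (v⁻¹ * (b * w * b⁻¹ * w⁻¹)) := by rw [h1]
    _ = _ := by group

/-- The commutator homomorphism on `V`. -/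
theorem exists_hom {b : G} (hb : b ∈ bau S) :
    ∃ φ : V →* G, ∀ v : V, φ v = b * v * b⁻¹ * (v : G)⁻¹ :=
  ⟨MonoidHom.mk' (fun v => b * v * b⁻¹ * (v : G)⁻¹) fun v w => mul_comm_el k hb v.2 w.2,
    fun _ => rfl⟩

theorem mem_XX [Finite G] {b x : G} (hb : b ∈ bau S) :
    x ∈ XX (V ⊔ zj S) b ↔ ∃ v ∈ V, x = b * v * b⁻¹ * v⁻¹ := by
  constructor
  · intro hx
    obtain ⟨φ, hφ⟩ := exists_hom k hb
    have h1 : XX (V ⊔ zj S) b ≤ φ.range := by
      unfold XX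
      rw [closure_le]
      rintro _ ⟨w, hw, rfl⟩
      obtain ⟨v, hv, z, hz, rfl⟩ := mem_sup_comm (fun a ha c hc => k.Vz ha hc) hw
      refine ⟨⟨v, hv⟩, ?_⟩
      rw [hφ]
      have h2 : b * z = z * b := ((mem_bau.1 hb).2 z hz).symm
      exact (comm_drop h2).symm
    obtain ⟨v, hv⟩ := h1 hx
    exact ⟨v, v.2, by rw [← hv, hφ]⟩
  · rintro ⟨v, hv, rfl⟩
    exact mem_XX_of (mem_sup_left hv)

theorem XX_le_ln [Finite G] {b : G} (hb : b ∈ bau S) : XX (V ⊔ zj S) b ≤ ln S V := by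
  intro x hx
  obtain ⟨v, hv, rfl⟩ := (mem_XX k hb).1 hx
  exact comm_ln k hb hv

theorem XX_le_zj [Finite G] {b : G} (hb : b ∈ bau S) : XX (V ⊔ zj S) b ≤ zj S :=
  fun _ hx => (mem_ln.1 (XX_le_ln k hb hx)).2

/-- `X_b` depends only on the coset `b P`. -/
theorem XX_coset [Finite G] {b p : G} (hb : b ∈ bau S) (hp : p ∈ QL S V) :
    XX (V ⊔ zj S) (b * p) = XX (V ⊔ zj S) b := by
  ext x
  rw [mem_XX k (mul_mem hb (mem_QL.1 hp).1), mem_XX k hb]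
  constructor
  · rintro ⟨v, hv, rfl⟩
    exact ⟨v, hv, comm_drop' (Bk.P_cent hp hv)⟩
  · rintro ⟨v, hv, rfl⟩
    exact ⟨v, hv, (comm_drop' (Bk.P_cent hp hv)).symm⟩

/-- `X_b ∩ C(L) = 1`. -/
theorem XX_disj [Finite G] {b x : G} (hb : b ∈ bau S) (hx : x ∈ XX (V ⊔ zj S) b)
    (hc : ∀ l ∈ L, l * x = x * l) : x = 1 := by
  obtain ⟨v, hv, rfl⟩ := (mem_XX k hb).1 hx
  exact comm_iff.1 (k.top.faith v hv b hb hc)

/-- `|X_b| |V ∩ Z_J| = |V|` -/
theorem card_XX [Finite G] {b : G} (hb : b ∈ bau S) (hbP : b ∉ QL S V) :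
    Nat.card (XX (V ⊔ zj S) b) * Nat.card (ln S V) = Nat.card V := by
  obtain ⟨φ, hφ⟩ := exists_hom k hb
  have h1 : φ.range = XX (V ⊔ zj S) b := by
    ext x
    rw [mem_XX k hb]
    constructor
    · rintro ⟨v, rfl⟩
      exact ⟨v, v.2, hφ v⟩
    · rintro ⟨v, hv, rfl⟩
      exact ⟨⟨v, hv⟩, hφ _⟩
  have h2 : φ.ker = (ln S V).subgroupOf V := by
    ext v
    rw [MonoidHom.mem_ker, hφ, mem_subgroupOf, ← comm_iff]
    constructor
    · intro h3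
      exact mem_ln.2 ⟨v.2, k.top.cent b hb hbP v v.2 h3⟩
    · intro h3
      exact ((mem_bau.1 hb).2 v (mem_ln.1 h3).2).symm
  have h3 : Nat.card φ.ker = Nat.card (ln S V) := by
    rw [h2]
    exact Nat.card_congr (Subgroup.subgroupOfEquivOfLe inf_le_left).toEquiv
  have h4 := φ.ker.card_mul_index
  rw [Subgroup.index_ker, h1, h3] at h4
  rw [mul_comm]
  exact h4

/-- `Z_J = X_b C_{Z_J}(L)`. -/
theorem split_XX [Finite G] {b z : G} (hb : b ∈ bau S) (hbP : b ∉ QL S V) (hz : z ∈ zj S) :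
    ∃ x ∈ XX (V ⊔ zj S) b, ∃ c ∈ zj S, (∀ l ∈ L, l * c = c * l) ∧ z = x * c := by
  obtain ⟨g, hg, hm⟩ := k.top.ne
  set C := ln S V ⊓ centralizer (L : Set G) with hC
  set X := XX (V ⊔ zj S) b with hX
  have hlnV : ln S V ≤ V := fun v hv => (mem_ln.1 hv).1
  have hcomm : ∀ a ∈ V, ∀ c ∈ V, a * c = c * a := fun a ha c hc => elem_comm k.elem a ha c hc
  -- `ln ∩ ln^g ≤ C`
  have h1 : ln S V ⊓ cj g (ln S V) ≤ C := by
    rintro v ⟨h1, h2⟩
    refine ⟨h1, ?_⟩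
    have h2' := mem_cj.1 h2
    exact NO3b.FPB.Claim.Bk.inter k.top hg hm (mem_ln.1 h1).2 (mem_ln.1 h2').2
  have hgln : cj g (ln S V) ≤ V := by
    refine (cj_mono g hlnV).trans ?_
    rw [cj_eq_of_mem_normalizer (k.top.LV hg)]
  have h2 := card_sup_comm (A := ln S V) (B := cj g (ln S V))
    (fun a ha c hc => hcomm a (hlnV ha) c (hgln hc))
  rw [card_cj] at h2
  have h3 : Nat.card ↥(ln S V ⊔ cj g (ln S V)) ≤ Nat.card V :=
    Subgroup.card_le_of_le (sup_le hlnV hgln)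
  have h4 : Nat.card ↥(ln S V ⊓ cj g (ln S V)) ≤ Nat.card C := Subgroup.card_le_of_le h1
  have h5 : Nat.card (ln S V) * Nat.card (ln S V) ≤ Nat.card V * Nat.card C := by
    rw [← h2]
    exact Nat.mul_le_mul h3 h4
  have h6 := card_XX k hb hbP
  have hpos : 0 < Nat.card (ln S V) := Nat.card_pos
  have h7 : Nat.card (ln S V) ≤ Nat.card X * Nat.card C := by
    rw [← h6] at h5
    refine Nat.le_of_mul_le_mul_right (c := Nat.card (ln S V)) ?_ hpos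
    calc Nat.card (ln S V) * Nat.card (ln S V) ≤ Nat.card X * Nat.card (ln S V) * Nat.card C := h5
      _ = Nat.card X * Nat.card C * Nat.card (ln S V) := by ring
  have hXln : X ≤ ln S V := XX_le_ln k hb
  have h8 := card_sup_comm (A := X) (B := C)
    (fun a ha c hc => hcomm a (hlnV (hXln ha)) c (hlnV (mem_inf.1 hc).1))
  have h9 : X ⊓ C = ⊥ := by
    rw [eq_bot_iff]
    rintro x ⟨hx, hxC⟩
    rw [mem_bot]
    exact XX_disj k hb hx fun l hl => mem_centralizer_iff.1 hxC.2 l hl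
  rw [h9, Subgroup.card_bot, mul_one] at h8
  have h10 : X ⊔ C = ln S V := by
    refine Subgroup.eq_of_le_of_card_ge (sup_le hXln inf_le_left) ?_
    rw [h8]
    exact h7
  obtain ⟨a, ha, c, hc, hlc, rfl⟩ := k.top.split z hz
  rw [← h10] at ha
  obtain ⟨x, hx, c', hc', rfl⟩ := mem_sup_comm
    (fun a ha c hc => hcomm a (hlnV (hXln ha)) c (hlnV (mem_inf.1 hc).1)) ha
  refine ⟨x, hx, c' * c, mul_mem (mem_ln.1 (mem_inf.1 hc').1).2 hc, fun l hl => ?_, by group⟩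
  have h11 : l * c' = c' * l := mem_centralizer_iff.1 hc'.2 l hl
  calc l * (c' * c) = (l * c') * c := by group
    _ = c' * (l * c) := by rw [h11]; group
    _ = c' * c * l := by rw [hlc l hl]; group

end

end Cfsg.Agent.Omega.NSix.NoBlk.XB
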